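import Cfsg.Agent.R2.H6P2.Two
import Cfsg.Agent.R2.H28.SL2.CF

/-!
# S5749, S5750, box P2: counting composition factors (helper6)

`finrank_eq_cf`, `sum_le` : the dimension as a sum over the labels; `card_one`, `card_two` : the dimensions of the modules
with the labels `2^n`, `2^n + 2^m`; `N_iff` : the orbits of `n ↦ n + e` modulo `a`.
-/

set_option autoImplicit false
set_option linter.unusedSectionVars false

namespace Cfsg.Agent.R2.H6P2

open Module Matrix
open Cfsg.Agent.H943.SL2Rel Cfsg.Agent.H943.SL2Mod Cfsg.Agent.H943.RepAdd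
open Cfsg.Agent.R2.H28.SL2 Cfsg.Agent.R2.SL2

universe u v w

section cf

variable {k : Type u} [Field k] [CharP k 2] [DecidableEq k] [IsAlgClosed k] {K : Type w} [Field K] [Fintype K]
  [DecidableEq K] [CharP K 2] (ι : K →+* k)
variable {V : Type v} [AddCommGroup V] [Module k V] [FiniteDimensional k V]

/-- the dimension as a sum over the composition factors -/
theorem finrank_eq_cf {a : ℕ} (hK : Fintype.card K = 2 ^ a) (τ : Representation k (SpecialLinearGroup (Fin 2) K) V) :
    finrank k V = ((cf (Sy.{u, v, w} ι 2) τ).map fun b => (Bp 2 b).card).sum := by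
  have h1 := isMult_cf.{u, v, w} ι 2 hK τ
  rw [h1.dim, Finset.sum_multiset_map_count]
  symm
  refine Finset.sum_subset_zero_on_sdiff (fun b hb => ?_) (fun b hb => ?_) (fun b _ => ?_)
  · rw [Multiset.mem_toFinset] at hb
    exact Finset.mem_range.2 (h1.supp b (Multiset.count_pos.2 hb).ne')
  · have h2 := (Finset.mem_sdiff.1 hb).2
    rw [Multiset.mem_toFinset] at h2
    rw [Multiset.count_eq_zero.2 h2, zero_mul]
  · rw [Bf_eq (p := 2), smul_eq_mul]

theorem sum_le {a : ℕ} (hK : Fintype.card K = 2 ^ a) (τ : Representation k (SpecialLinearGroup (Fin 2) K) V)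
    {L : List ℕ} (hL : L.Nodup) :
    (L.map fun b => (cf (Sy.{u, v, w} ι 2) τ).count b * (Bp 2 b).card).sum ≤ finrank k V := by
  rw [finrank_eq_cf ι hK τ, Finset.sum_multiset_map_count, ← List.sum_toFinset _ hL]
  have h1 : ∀ s : Finset ℕ, ∑ b ∈ s, (cf (Sy.{u, v, w} ι 2) τ).count b * (Bp 2 b).card ≤
      ∑ b ∈ (cf (Sy.{u, v, w} ι 2) τ).toFinset, (cf (Sy.{u, v, w} ι 2) τ).count b • (Bp 2 b).card := by
    intro s
    rw [← Finset.sum_filter_add_sum_filter_not s (fun b => b ∈ (cf (Sy.{u, v, w} ι 2) τ).toFinset)]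
    have h2 : ∑ b ∈ s.filter (fun b => ¬ b ∈ (cf (Sy.{u, v, w} ι 2) τ).toFinset),
        (cf (Sy.{u, v, w} ι 2) τ).count b * (Bp 2 b).card = 0 := by
      refine Finset.sum_eq_zero fun b hb => ?_
      have h3 := (Finset.mem_filter.1 hb).2
      rw [Multiset.mem_toFinset] at h3
      rw [Multiset.count_eq_zero.2 h3, zero_mul]
    rw [h2, add_zero]
    exact Finset.sum_le_sum_of_subset fun b hb => (Finset.mem_filter.1 hb).2
  exact h1 _

end cf

theorem card_one (n : ℕ) : (Bp 2 (2 ^ n)).card = 2 := by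
  have h1 := card_Bp_psm (l := [n]) (List.nodup_singleton n)
  rwa [psm_cons, psm_nil, add_zero] at h1

theorem card_two {n m : ℕ} (h : n ≠ m) : (Bp 2 (2 ^ n + 2 ^ m)).card = 4 := by
  have h1 := card_Bp_psm (l := [n, m]) (by simp [h])
  rwa [psm_cons, psm_cons, psm_nil, add_zero] at h1

theorem lab_inj {n m : ℕ} (h : 2 ^ n = 2 ^ m) : n = m := Nat.pow_right_injective le_rfl h

theorem lab_ne {n m l : ℕ} (h : n ≠ m) : 2 ^ n + 2 ^ m ≠ 2 ^ l := by
  intro h1
  have h2 := card_two h
  rw [h1, card_one] at h2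
  omega

theorem lab_two {n m n' m' : ℕ} (h : n ≠ m) (h' : n' ≠ m') (he : 2 ^ n + 2 ^ m = 2 ^ n' + 2 ^ m') :
    n = n' ∧ m = m' ∨ n = m' ∧ m = n' := by
  have h1 : ([n, m] : List ℕ).Perm [n', m'] := by
    refine psm_inj (by simp [h]) (by simp [h']) ?_
    rw [psm_cons, psm_cons, psm_nil, psm_cons, psm_cons, psm_nil, add_zero, add_zero, he]
  have h2 : n ∈ [n', m'] := h1.subset (by simp)
  have h3 : m ∈ [n', m'] := h1.subset (by simp)
  simp only [List.mem_cons, List.not_mem_nil, or_false] at h2 h3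
  rcases h2 with h2 | h2 <;> rcases h3 with h3 | h3
  · exact absurd (h2.trans h3.symm) h
  · exact Or.inl ⟨h2, h3⟩
  · exact Or.inr ⟨h2, h3⟩
  · exact absurd (h2.trans h3.symm) h

/-- **the orbits of `n ↦ n + e` modulo `a`** -/
theorem N_iff {a e : ℕ} (ha : 0 < a) (n i j : ℕ) :
    (n + e * i) % a = (n + e * j) % a ↔ i ≡ j [MOD a / Nat.gcd a e] := by
  constructor
  · intro h
    have h1 : e * i ≡ e * j [MOD a] := Nat.ModEq.add_left_cancel' n h
    exact Nat.ModEq.cancel_left_div_gcd ha h1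
  · intro h
    have h1 : e * i ≡ e * j [MOD e * (a / Nat.gcd a e)] := Nat.ModEq.mul_left' e h
    have h2 : a ∣ e * (a / Nat.gcd a e) := by
      obtain ⟨e', he'⟩ := Nat.gcd_dvd_right a e
      obtain ⟨a', ha'⟩ := Nat.gcd_dvd_left a e
      have hg : 0 < Nat.gcd a e := Nat.gcd_pos_of_pos_left e ha
      have h3 : a / Nat.gcd a e = a' := Nat.div_eq_of_eq_mul_right hg ha'
      rw [h3]
      refine ⟨e', ?_⟩
      calc e * a' = (Nat.gcd a e * e') * a' := by rw [← he']
        _ = (Nat.gcd a e * a') * e' := by ring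
        _ = a * e' := by rw [← ha']
    exact Nat.ModEq.add_left n (h1.of_dvd h2)

end Cfsg.Agent.R2.H6P2
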