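import Cfsg.Agent.R2.H6P2.Frame
import Cfsg.Agent.R2.H6P2.Cnt

/-!
# S5749, S5750, box P2: the orbit of the Frobenius map on the twisted natural modules (helper6)

`two_types` : no two totally singular twisted natural modules of different types which are stable (or exchanged) under the
Frobenius map;
`r_one` : there is a totally singular twisted natural module which is fixed by the Frobenius map.
-/

set_option autoImplicit false
set_option linter.unusedSectionVars false

namespace Cfsg.Agent.R2.H6P2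

open Module Matrix
open Cfsg.Lie
open Cfsg.Agent.ChevalleyStructure.E6Min.Basic (Zgrp)
open Cfsg.Agent.H943.SL2Rel Cfsg.Agent.H943.SL2Mod Cfsg.Agent.H943.RepAdd
open Cfsg.Agent.R2.H28.SL2 Cfsg.Agent.R2.SL2 Cfsg.Agent.R2.GEO
open Cfsg.Agent.H952.F4 (sh cr tf)
open Cfsg.Agent.H952.F4.Jord
open Cfsg.Agent.H163.E6 (V V' TS)
open Cfsg.Agent.H65.E6Emb
open Cfsg.Agent.R2.H9.E6 (Setup pq pq_surjective)

universe u v w x

variable {k : Type u} [Field k]

theorem cr_span {x y x' y' u v : I27 → k} (hu : u ∈ Submodule.span k {x, y}) (hv : v ∈ Submodule.span k {x', y'}) :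
    cr u v ∈ Submodule.span k {cr x x', cr x y', cr y x', cr y y'} := by
  obtain ⟨α, β, rfl⟩ := Submodule.mem_span_pair.1 hu
  obtain ⟨α', β', rfl⟩ := Submodule.mem_span_pair.1 hv
  have h1 : cr x x' ∈ Submodule.span k {cr x x', cr x y', cr y x', cr y y'} := Submodule.subset_span (by simp)
  have h2 : cr x y' ∈ Submodule.span k {cr x x', cr x y', cr y x', cr y y'} := Submodule.subset_span (by simp)
  have h3 : cr y x' ∈ Submodule.span k {cr x x', cr x y', cr y x', cr y y'} := Submodule.subset_span (by simp)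
  have h4 : cr y y' ∈ Submodule.span k {cr x x', cr x y', cr y x', cr y y'} := Submodule.subset_span (by simp)
  rw [cr_add_left, cr_add_right, cr_add_right, cr_smul_left, cr_smul_left, cr_smul_left, cr_smul_left, cr_smul_right,
    cr_smul_right, cr_smul_right, cr_smul_right]
  exact Submodule.add_mem _
    (Submodule.add_mem _ (Submodule.smul_mem _ _ (Submodule.smul_mem _ _ h1))
      (Submodule.smul_mem _ _ (Submodule.smul_mem _ _ h2)))
    (Submodule.add_mem _ (Submodule.smul_mem _ _ (Submodule.smul_mem _ _ h3))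
      (Submodule.smul_mem _ _ (Submodule.smul_mem _ _ h4)))

theorem stb_sum {K : Type w} [Field K] {τ : Representation k (SpecialLinearGroup (Fin 2) K) (I27 → k)} {κ κ' : K →+* k}
    {x y x' y' : I27 → k} (h : Two τ κ x y) (h' : Two τ κ' x' y') : Stb τ (Submodule.span k {x, y, x', y'}) := by
  have hx : x ∈ Submodule.span k {x, y, x', y'} := Submodule.subset_span (by simp)
  have hy : y ∈ Submodule.span k {x, y, x', y'} := Submodule.subset_span (by simp)
  have hx' : x' ∈ Submodule.span k {x, y, x', y'} := Submodule.subset_span (by simp)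
  have hy' : y' ∈ Submodule.span k {x, y, x', y'} := Submodule.subset_span (by simp)
  refine stb_span fun g z hz => ?_
  rcases hz with rfl | rfl | rfl | hz
  · rw [h.act₀]
    exact Submodule.add_mem _ (Submodule.smul_mem _ _ hx) (Submodule.smul_mem _ _ hy)
  · rw [h.act₁]
    exact Submodule.add_mem _ (Submodule.smul_mem _ _ hx) (Submodule.smul_mem _ _ hy)
  · rw [h'.act₀]
    exact Submodule.add_mem _ (Submodule.smul_mem _ _ hx') (Submodule.smul_mem _ _ hy')
  · rw [Set.mem_singleton_iff.1 hz, h'.act₁]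
    exact Submodule.add_mem _ (Submodule.smul_mem _ _ hx') (Submodule.smul_mem _ _ hy')

theorem finrank_four_le (x y x' y' : I27 → k) : finrank k (Submodule.span k {x, y, x', y'}) ≤ 4 := by
  have h1 : ({x, y, x', y'} : Set (I27 → k)) = Set.range ![x, y, x', y'] := by
    rw [Matrix.range_cons, Matrix.range_cons, Matrix.range_cons, Matrix.range_cons, Matrix.range_empty]
    ext v
    simp only [Set.mem_insert_iff, Set.mem_singleton_iff, Set.mem_union, Set.mem_empty_iff_false, or_false]
  rw [h1]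
  exact (finrank_range_le_card _).trans (by rw [Fintype.card_fin])

section alg

variable [CharP k 2] {K : Type w} [Field K] [DecidableEq k] [Fintype K] [DecidableEq K] [CharP K 2] [IsAlgClosed k]
  (ι : K →+* k) {a : ℕ} (hK : Fintype.card K = 2 ^ a)
  {ρ ρ' : Representation k ↥(Zgrp k) (I27 → k)} {χ : SpecialLinearGroup (Fin 2) K →* ↥(Zgrp k)}

include hK

theorem cnt_le {U : Submodule k (I27 → k)} (hU : Stb (rp ρ χ) U) {n : ℕ} (hn : n < a) {x y : I27 → k}
    (h : Two (rp ρ χ) (ka ι n) x y) (hx : x ∈ U) (hy : y ∈ U) :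
    1 ≤ (cf (Sy.{u, u, w} ι 2) (subRep (rp ρ χ) U hU)).count (2 ^ n) := by
  have hle : Submodule.span k {x, y} ≤ U := by
    rw [Submodule.span_le]
    rintro z (rfl | hz)
    · exact hx
    · rw [Set.mem_singleton_iff.1 hz]
      exact hy
  have h1 := cf_mono ι hle h.stb hU
  rw [count_of_isV ι h.stb ((h.isV ι hK hn).2 h.stb)] at h1
  have h2 := Multiset.count_le_of_le (2 ^ n) h1
  rwa [Multiset.count_singleton_self] at h2

theorem cnt_one {n : ℕ} (hn : n < a) {x y : I27 → k} (h : Two (rp ρ χ) (ka ι n) x y) :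
    1 ≤ (cf (Sy.{u, u, w} ι 2) (rp ρ χ)).count (2 ^ n) := by
  have h1 := cf_sub_le (Sy.{u, u, w} ι 2) (rp ρ χ) _ h.stb
  rw [count_of_isV ι h.stb ((h.isV ι hK hn).2 h.stb)] at h1
  have h2 := Multiset.count_le_of_le (2 ^ n) h1
  rwa [Multiset.count_singleton_self] at h2

/-- the sum of two modules with different labels -/
theorem finrank_sum {n m : ℕ} (hn : n < a) (hm : m < a) (hnm : n ≠ m) {x y x' y' : I27 → k}
    (h : Two (rp ρ χ) (ka ι n) x y) (h' : Two (rp ρ χ) (ka ι m) x' y') :
    finrank k (Submodule.span k {x, y, x', y'}) = 4 := by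
  refine le_antisymm (finrank_four_le _ _ _ _) ?_
  have hs := stb_sum h h'
  have h1 := cnt_le ι hK hs hn h (Submodule.subset_span (by simp)) (Submodule.subset_span (by simp))
  have h2 := cnt_le ι hK hs hm h' (Submodule.subset_span (by simp)) (Submodule.subset_span (by simp))
  have h3 := sum_le ι hK (subRep (rp ρ χ) _ hs) (L := [2 ^ n, 2 ^ m]) (by
    simp only [List.nodup_cons, List.mem_singleton, List.not_mem_nil, not_false_eq_true, List.nodup_nil, and_true]
    exact fun h0 => hnm (lab_inj h0))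
  simp only [List.map_cons, List.map_nil, List.sum_cons, List.sum_nil, card_one] at h3
  omega

/-- the multiplicities of two orthogonal totally singular modules -/
theorem cnt_sum (hper : commutator (SpecialLinearGroup (Fin 2) K) = ⊤) (hρ : Pair ρ ρ') {n m : ℕ} (hn : n < a)
    (hm : m < a) (hnm : n ≠ m) {x y x' y' : I27 → k} (h : TTwo ρ χ (ka ι n) x y) (h' : TTwo ρ χ (ka ι m) x' y')
    (h0 : cr x x' = 0 ∧ cr x y' = 0 ∧ cr y x' = 0 ∧ cr y y' = 0) :
    2 ≤ (cf (Sy.{u, u, w} ι 2) (rp ρ χ)).count (2 ^ n) ∧ 2 ≤ (cf (Sy.{u, u, w} ι 2) (rp ρ χ)).count (2 ^ m) := by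
  have hs := stb_sum h.toTwo h'.toTwo
  have h1 := cnt_le ι hK hs hn h.toTwo (Submodule.subset_span (by simp)) (Submodule.subset_span (by simp))
  have h2 := cnt_le ι hK hs hm h'.toTwo (Submodule.subset_span (by simp)) (Submodule.subset_span (by simp))
  have h3 := hull_cf ι hper hρ hs (finrank_sum ι hK hn hm hnm h.toTwo h'.toTwo) (h.sum_ts h' h0).1
  have h4 := Multiset.count_le_of_le (2 ^ n) h3
  have h5 := Multiset.count_le_of_le (2 ^ m) h3
  rw [Multiset.count_add] at h4 h5
  omega

/-- the multiplicities of the product of two totally singular modules -/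
theorem cnt_four (hper : commutator (SpecialLinearGroup (Fin 2) K) = ⊤) (hnf : NoFx χ) (hρ : Pair ρ ρ') {n m : ℕ}
    (hn : n < a) (hm : m < a) (hnm : n ≠ m) {x y x' y' : I27 → k} (h : TTwo ρ χ (ka ι n) x y)
    (h' : TTwo ρ χ (ka ι m) x' y') (h0 : ¬ (cr x x' = 0 ∧ cr x y' = 0 ∧ cr y x' = 0 ∧ cr y y' = 0)) :
    2 ≤ (cf (Sy.{u, u, w} ι 2) (rp ρ χ)).count (2 ^ n + 2 ^ m) := by
  have hf := h.four hρ h'
  obtain ⟨hd, hV⟩ := hf.isV ι hK hn hm hnm h0
  have h3 := hull_cf ι hper hρ.swap hf.stb hd (h.four_ts hρ hnf h').1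
  rw [count_of_isV ι hf.stb (hV hf.stb)] at h3
  have h4 := Multiset.count_le_of_le (2 ^ n + 2 ^ m) h3
  rw [Multiset.count_add, Multiset.count_singleton_self, cf_pair ι hρ] at h4
  omega

end alg

section frob

variable [CharP k 2] {K : Type w} [Field K] [DecidableEq k] [Fintype K] [DecidableEq K] [CharP K 2] [IsAlgClosed k]
  (ι : K →+* k) {a : ℕ} (hK : Fintype.card K = 2 ^ a)
  {F : Type v} [Field F] [Fintype F] (f : F →+* k) {e : ℕ} (hF : Fintype.card F = 2 ^ e)
  {ψ : ProjectiveSpecialLinearGroup (Fin 2) K →* ↥(Zgrp F)} {Γ M : Subgroup ↥(Zgrp F)} (hS : Setup Γ M ψ)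
  (hper : commutator (SpecialLinearGroup (Fin 2) K) = ⊤) (hnf : NoFx (chi f ψ))
  {ρ ρ' : Representation k ↥(Zgrp k) (I27 → k)}

include hK hF hS hnf

/-- **no two totally singular modules of different types which are stable under the Frobenius map** -/
theorem two_types (hρ : Pair ρ ρ') {n m : ℕ} (hn : n < a) (hm : m < a) (hnm : n ≠ m) {x y x' y' : I27 → k}
    (h : TTwo ρ (chi f ψ) (ka ι n) x y) (h' : TTwo ρ (chi f ψ) (ka ι m) x' y')
    (hst : (Ph e x ∈ Submodule.span k {x, y} ∧ Ph e y ∈ Submodule.span k {x, y} ∧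
        Ph e x' ∈ Submodule.span k {x', y'} ∧ Ph e y' ∈ Submodule.span k {x', y'}) ∨
      (Ph e x ∈ Submodule.span k {x', y'} ∧ Ph e y ∈ Submodule.span k {x', y'} ∧
        Ph e x' ∈ Submodule.span k {x, y} ∧ Ph e y' ∈ Submodule.span k {x, y})) : False := by
  by_cases h0 : cr x x' = 0 ∧ cr x y' = 0 ∧ cr y x' = 0 ∧ cr y y' = 0
  · -- the sum
    have hA : Submodule.span k {x, y} ≤ Submodule.span k {x, y, x', y'} := by
      refine Submodule.span_mono ?_
      rintro z (rfl | hz)
      · simp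
      · rw [Set.mem_singleton_iff.1 hz]
        simp
    have hB : Submodule.span k {x', y'} ≤ Submodule.span k {x, y, x', y'} := by
      refine Submodule.span_mono ?_
      rintro z (rfl | hz)
      · simp
      · rw [Set.mem_singleton_iff.1 hz]
        simp
    refine rat_ts f hF hS (pair_left hρ) (stb_sum h.toTwo h'.toTwo) (span_Ph ?_) (h.sum_ts h' h0).1
      (Or.inl (finrank_sum ι hK hn hm hnm h.toTwo h'.toTwo))
    rintro z (rfl | rfl | rfl | hz)
    · rcases hst with hst | hst
      · exact hA hst.1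
      · exact hB hst.1
    · rcases hst with hst | hst
      · exact hA hst.2.1
      · exact hB hst.2.1
    · rcases hst with hst | hst
      · exact hB hst.2.2.1
      · exact hA hst.2.2.1
    · rw [Set.mem_singleton_iff.1 hz]
      rcases hst with hst | hst
      · exact hB hst.2.2.2
      · exact hA hst.2.2.2
  · -- the product
    have hf := h.four hρ h'
    obtain ⟨hd, hV⟩ := hf.isV ι hK hn hm hnm h0
    refine rat_ts f hF hS (pair_left hρ.swap) hf.stb (span_Ph ?_) (h.four_ts hρ hnf h').1 (Or.inl hd)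
    have key : ∀ u v, (Ph e u ∈ Submodule.span k {x, y} ∧ Ph e v ∈ Submodule.span k {x', y'}) ∨
        (Ph e u ∈ Submodule.span k {x', y'} ∧ Ph e v ∈ Submodule.span k {x, y}) →
        Ph e (cr u v) ∈ Submodule.span k {cr x x', cr x y', cr y x', cr y y'} := by
      intro u v huv
      rw [← Ph_cr]
      rcases huv with huv | huv
      · exact cr_span huv.1 huv.2
      · rw [cr_comm (Ph e u) (Ph e v)]
        exact cr_span huv.2 huv.1
    have k1 := key x x' (hst.imp (fun h => ⟨h.1, h.2.2.1⟩) fun h => ⟨h.1, h.2.2.1⟩)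
    have k2 := key x y' (hst.imp (fun h => ⟨h.1, h.2.2.2⟩) fun h => ⟨h.1, h.2.2.2⟩)
    have k3 := key y x' (hst.imp (fun h => ⟨h.2.1, h.2.2.1⟩) fun h => ⟨h.2.1, h.2.2.1⟩)
    have k4 := key y y' (hst.imp (fun h => ⟨h.2.1, h.2.2.2⟩) fun h => ⟨h.2.1, h.2.2.2⟩)
    intro z hz
    rcases hz with hz | hz | hz | hz
    · rw [hz]; exact k1
    · rw [hz]; exact k2
    · rw [hz]; exact k3
    · rw [Set.mem_singleton_iff.1 hz]; exact k4

end frob

end Cfsg.Agent.R2.H6P2
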