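import Cfsg.Agent.H65.E6Emb

/-!
# S5749, S5750, box P2: Galois descent (helper6)

`s : k →+* k`; a non-zero subspace of `n → k` stable under `s` contains a non-zero vector fixed by `s` (`exists_fixed`); if the
fixed field of `s` is `f (F)`, it is the extension of a subspace over `F` (`exists_ext`).
-/

set_option autoImplicit false
set_option linter.unusedSectionVars false

namespace Cfsg.Agent.R2.H6P2

open Module Cfsg.Agent.H65.E6Emb

universe u v w

variable {k : Type u} [Field k] (s : k →+* k) {n : Type w} [Fintype n]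

theorem exists_fixed_aux {U : Submodule k (n → k)} (hU : ∀ u ∈ U, (fun i => s (u i)) ∈ U) (N : ℕ) :
    ∀ u ∈ U, u ≠ 0 → {i | u i ≠ 0}.ncard ≤ N → ∃ v ∈ U, v ≠ 0 ∧ (fun i => s (v i)) = v := by
  induction N with
  | zero =>
    intro u _ hu0 hc
    exfalso
    apply hu0
    have h1 : {i | u i ≠ 0} = ∅ := (Set.ncard_eq_zero (Set.toFinite _)).1 (Nat.le_zero.1 hc)
    funext i
    by_contra h
    have h2 : i ∈ ({i | u i ≠ 0} : Set n) := h
    rw [h1] at h2
    exact h2
  | succ N ih =>
    intro u hu hu0 hc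
    obtain ⟨i, hi⟩ := Function.ne_iff.1 hu0
    have hi' : u i ≠ 0 := hi
    set v : n → k := (u i)⁻¹ • u with hv
    have hvU : v ∈ U := U.smul_mem _ hu
    have hvi : v i = 1 := by
      rw [hv, Pi.smul_apply, smul_eq_mul, inv_mul_cancel₀ hi']
    set w : n → k := (fun j => s (v j)) - v with hw
    have hwU : w ∈ U := U.sub_mem (hU v hvU) hvU
    by_cases hw0 : w = 0
    · refine ⟨v, hvU, fun h => ?_, sub_eq_zero.1 hw0⟩
      have h1 := congrFun h i
      rw [hvi] at h1
      exact one_ne_zero h1
    · refine ih w hwU hw0 ?_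
      have h1 : {j | w j ≠ 0} ⊆ {j | u j ≠ 0} \ {i} := by
        intro j hj
        have hj' : w j ≠ 0 := hj
        refine ⟨fun h => hj' ?_, fun h => hj' ?_⟩
        · have h2 : v j = 0 := by
            rw [hv, Pi.smul_apply, smul_eq_mul, h, mul_zero]
          show s (v j) - v j = 0
          rw [h2, map_zero, sub_zero]
        · rw [Set.mem_singleton_iff.1 h]
          show s (v i) - v i = 0
          rw [hvi, map_one, sub_self]
      have h2 := Set.ncard_le_ncard h1 (Set.toFinite _)
      have h3 := Set.ncard_diff_singleton_lt_of_mem (s := {j | u j ≠ 0}) (a := i) hi' (Set.toFinite _)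
      omega

/-- a stable subspace contains a fixed vector -/
theorem exists_fixed {U : Submodule k (n → k)} (hU : ∀ u ∈ U, (fun i => s (u i)) ∈ U) (h0 : U ≠ ⊥) :
    ∃ v ∈ U, v ≠ 0 ∧ (fun i => s (v i)) = v := by
  obtain ⟨u, hu, hu0⟩ := (Submodule.ne_bot_iff U).1 h0
  exact exists_fixed_aux s hU _ u hu hu0 le_rfl

variable {F : Type v} [Field F] (f : F →+* k)

/-- the vectors over `F` -/
def rat (U : Submodule k (n → k)) : Submodule F (n → F) where
  carrier := {x | (fun i => f (x i)) ∈ U}
  add_mem' {x y} hx hy := by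
    have h : (fun i => f ((x + y) i)) = (fun i => f (x i)) + fun i => f (y i) := by
      funext i
      simp
    show (fun i => f ((x + y) i)) ∈ U
    rw [h]
    exact U.add_mem hx hy
  zero_mem' := by
    have h : (fun i => f ((0 : n → F) i)) = 0 := by
      funext i
      simp
    show (fun i => f ((0 : n → F) i)) ∈ U
    rw [h]
    exact U.zero_mem
  smul_mem' c x hx := by
    have h : (fun i => f ((c • x) i)) = f c • fun i => f (x i) := by
      funext i
      simp
    show (fun i => f ((c • x) i)) ∈ U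
    rw [h]
    exact U.smul_mem _ hx

theorem mem_rat {U : Submodule k (n → k)} {x : n → F} : x ∈ rat f U ↔ (fun i => f (x i)) ∈ U := Iff.rfl

theorem ext_rat_le (U : Submodule k (n → k)) : ext f (rat f U) ≤ U := ext_le fun _ hx => hx

theorem le_ext_rat (hs : ∀ x, s x = x → ∃ y, f y = x) (N : ℕ) : ∀ U : Submodule k (n → k),
    (∀ u ∈ U, (fun i => s (u i)) ∈ U) → finrank k U ≤ N → U ≤ ext f (rat f U) := by
  induction N with
  | zero =>
    intro U _ hN
    rw [Submodule.finrank_eq_zero.1 (Nat.le_zero.1 hN)]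
    exact bot_le
  | succ N ih =>
    intro U hU hN
    by_cases h0 : U = ⊥
    · rw [h0]
      exact bot_le
    obtain ⟨v, hv, hv0, hvs⟩ := exists_fixed s hU h0
    obtain ⟨i, hi⟩ := Function.ne_iff.1 hv0
    have hi' : v i ≠ 0 := hi
    choose x hx using fun j => hs (v j) (congrFun hvs j)
    have hxv : (fun j => f (x j)) = v := funext hx
    have hvE : v ∈ ext f (rat f U) := by
      rw [← hxv]
      exact mem_ext_of_mem (by rw [mem_rat, hxv]; exact hv)
    set U' : Submodule k (n → k) := U ⊓ LinearMap.ker (LinearMap.proj (R := k) (φ := fun _ => k) i) with hU'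
    have hU's : ∀ u ∈ U', (fun j => s (u j)) ∈ U' := by
      intro u hu
      refine ⟨hU u hu.1, ?_⟩
      have h1 : u i = 0 := hu.2
      show s (u i) = 0
      rw [h1, map_zero]
    have hlt : finrank k U' < finrank k U := by
      apply Submodule.finrank_lt_finrank_of_lt
      refine lt_of_le_of_ne inf_le_left fun h => ?_
      rw [← h] at hv
      exact hi' hv.2
    have h1 := ih U' hU's (by omega)
    have h2 : ext f (rat f U') ≤ ext f (rat f U) := ext_mono fun y hy => hy.1
    intro u hu
    have h3 : u = (u i * (v i)⁻¹) • v + (u - (u i * (v i)⁻¹) • v) := by abel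
    rw [h3]
    refine Submodule.add_mem _ (Submodule.smul_mem _ _ hvE) (h2 (h1 ⟨U.sub_mem hu (U.smul_mem _ hv), ?_⟩))
    show u i - (u i * (v i)⁻¹) * v i = 0
    rw [mul_assoc, inv_mul_cancel₀ hi', mul_one, sub_self]

/-- **Galois descent** -/
theorem exists_ext (hs : ∀ x, s x = x → ∃ y, f y = x) {U : Submodule k (n → k)}
    (hU : ∀ u ∈ U, (fun i => s (u i)) ∈ U) : ∃ W : Submodule F (n → F), ext f W = U :=
  ⟨rat f U, le_antisymm (ext_rat_le f U) (le_ext_rat s f hs _ U hU le_rfl)⟩

end Cfsg.Agent.R2.H6P2
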