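import Cfsg.Agent.R2.H6P2.Alt
import Cfsg.Agent.R2.H28.SL2.ExtY
import Cfsg.Agent.R2.SL2.Bridge

/-!
# S5749, S5750, box P2: the irreducible modules of `SL₂(2^a)` as spaces of products of functions (helper6)

`ka ι n : K →+* k` : the homomorphism `t ↦ ι t ^ 2 ^ n`; `FS ι l` : the space of functions on `K²` spanned by the products of
the functions `κ_n (x)`, `κ_n (y)` (`n ∈ l`), i.e. the image of the tensor product of the twisted natural modules;
`Vb_eq` : `V_b = FS ι l` if `b = ∑ 2 ^ n` (`n ∈ l`, no repetitions); `altZ_irr` : the alternating lemma for irreducible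
modules.
-/

set_option autoImplicit false
set_option linter.unusedSectionVars false

namespace Cfsg.Agent.R2.H6P2

open Module Matrix
open Cfsg.Agent.H943.SL2Rel Cfsg.Agent.H943.SL2Mod Cfsg.Agent.H943.RepAdd
open Cfsg.Agent.R2.H28.SL2 Cfsg.Agent.R2.SL2

universe u v w

variable {k : Type u} [Field k] [CharP k 2] {K : Type w} [Field K]

/-- the twists of the embedding -/
noncomputable def ka (ι : K →+* k) (n : ℕ) : K →+* k := (iterateFrobenius k 2 n).comp ι

theorem ka_apply (ι : K →+* k) (n : ℕ) (t : K) : ka ι n t = ι t ^ 2 ^ n := by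
  rw [ka, RingHom.comp_apply, iterateFrobenius_def]

/-- multiplication with `κ (x)` -/
def mx (κ : K →+* k) : (K × K → k) →ₗ[k] (K × K → k) where
  toFun f z := κ z.1 * f z
  map_add' f f' := by funext z; exact mul_add _ _ _
  map_smul' c f := by funext z; exact mul_left_comm _ _ _

/-- multiplication with `κ (y)` -/
def my (κ : K →+* k) : (K × K → k) →ₗ[k] (K × K → k) where
  toFun f z := κ z.2 * f z
  map_add' f f' := by funext z; exact mul_add _ _ _
  map_smul' c f := by funext z; exact mul_left_comm _ _ _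

theorem mx_apply (κ : K →+* k) (f : K × K → k) (z : K × K) : mx κ f z = κ z.1 * f z := rfl

theorem my_apply (κ : K →+* k) (f : K × K → k) (z : K × K) : my κ f z = κ z.2 * f z := rfl

/-- the spaces of products -/
noncomputable def FS (ι : K →+* k) : List ℕ → Submodule k (K × K → k)
  | [] => Submodule.span k {fun _ => 1}
  | n :: l => (FS ι l).map (mx (ka ι n)) ⊔ (FS ι l).map (my (ka ι n))

theorem FS_nil (ι : K →+* k) : FS ι [] = Submodule.span k {fun _ => 1} := rfl

theorem FS_cons (ι : K →+* k) (n : ℕ) (l : List ℕ) :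
    FS ι (n :: l) = (FS ι l).map (mx (ka ι n)) ⊔ (FS ι l).map (my (ka ι n)) := rfl

theorem fRep_mx (κ : K →+* k) (g : SpecialLinearGroup (Fin 2) K) (f : K × K → k) :
    fRep k K g (mx κ f) = κ (g.1 0 0) • mx κ (fRep k K g f) + κ (g.1 1 0) • my κ (fRep k K g f) := by
  funext z
  show κ (z.1 * g.1 0 0 + z.2 * g.1 1 0) * f _ = κ (g.1 0 0) * (κ z.1 * f _) + κ (g.1 1 0) * (κ z.2 * f _)
  rw [map_add, map_mul, map_mul]
  ring

theorem fRep_my (κ : K →+* k) (g : SpecialLinearGroup (Fin 2) K) (f : K × K → k) :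
    fRep k K g (my κ f) = κ (g.1 0 1) • mx κ (fRep k K g f) + κ (g.1 1 1) • my κ (fRep k K g f) := by
  funext z
  show κ (z.1 * g.1 0 1 + z.2 * g.1 1 1) * f _ = κ (g.1 0 1) * (κ z.1 * f _) + κ (g.1 1 1) * (κ z.2 * f _)
  rw [map_add, map_mul, map_mul]
  ring

theorem stb_FS (ι : K →+* k) (l : List ℕ) : Stb (fRep k K) (FS ι l) := by
  induction l with
  | nil =>
    intro g w hw
    rw [FS_nil, Submodule.mem_span_singleton] at hw ⊢
    obtain ⟨c, rfl⟩ := hw
    exact ⟨c, rfl⟩
  | cons n l ih =>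
    intro g w hw
    rw [FS_cons] at hw ⊢
    obtain ⟨a, ⟨f, hf, rfl⟩, b, ⟨f', hf', rfl⟩, rfl⟩ := Submodule.mem_sup.1 hw
    have e0 : ∀ f ∈ FS ι l, mx (ka ι n) f ∈ (FS ι l).map (mx (ka ι n)) ⊔ (FS ι l).map (my (ka ι n)) :=
      fun f hf => Submodule.mem_sup_left ⟨f, hf, rfl⟩
    have e1 : ∀ f ∈ FS ι l, my (ka ι n) f ∈ (FS ι l).map (mx (ka ι n)) ⊔ (FS ι l).map (my (ka ι n)) :=
      fun f hf => Submodule.mem_sup_right ⟨f, hf, rfl⟩
    rw [map_add, fRep_mx, fRep_my]
    exact Submodule.add_mem _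
      (Submodule.add_mem _ (Submodule.smul_mem _ _ (e0 _ (ih g f hf))) (Submodule.smul_mem _ _ (e1 _ (ih g f hf))))
      (Submodule.add_mem _ (Submodule.smul_mem _ _ (e0 _ (ih g f' hf'))) (Submodule.smul_mem _ _ (e1 _ (ih g f' hf'))))

/-- the representation on `FS ι l` -/
noncomputable abbrev fs (ι : K →+* k) (l : List ℕ) : Representation k (SpecialLinearGroup (Fin 2) K) (FS ι l) :=
  subRep (fRep k K) (FS ι l) (stb_FS ι l)

theorem finite_FS (ι : K →+* k) (l : List ℕ) : FiniteDimensional k (FS ι l) := by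
  induction l with
  | nil =>
    rw [FS_nil]
    infer_instance
  | cons n l ih =>
    rw [FS_cons]
    infer_instance

theorem finrank_FS_le (ι : K →+* k) (l : List ℕ) : finrank k (FS ι l) ≤ 2 ^ l.length := by
  induction l with
  | nil =>
    rw [FS_nil]
    exact finrank_span_le_card _ |>.trans (by simp)
  | cons n l ih =>
    have := finite_FS ι l
    rw [FS_cons, List.length_cons, pow_succ]
    have e1 := Submodule.finrank_add_le_finrank_add_finrank ((FS ι l).map (mx (ka ι n))) ((FS ι l).map (my (ka ι n)))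
    have e2 := Submodule.finrank_map_le (mx (ka ι n)) (FS ι l)
    have e3 := Submodule.finrank_map_le (my (ka ι n)) (FS ι l)
    omega

/-- the first factor -/
noncomputable def jx (ι : K →+* k) (n : ℕ) (l : List ℕ) : FS ι l →ₗ[k] FS ι (n :: l) :=
  ((mx (ka ι n)) ∘ₗ (FS ι l).subtype).codRestrict _ fun f => Submodule.mem_sup_left ⟨f, f.2, rfl⟩

noncomputable def jy (ι : K →+* k) (n : ℕ) (l : List ℕ) : FS ι l →ₗ[k] FS ι (n :: l) :=
  ((my (ka ι n)) ∘ₗ (FS ι l).subtype).codRestrict _ fun f => Submodule.mem_sup_right ⟨f, f.2, rfl⟩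

theorem tens_FS (ι : K →+* k) (n : ℕ) (l : List ℕ) :
    Tens (fun g : SpecialLinearGroup (Fin 2) K => g.1.map (ka ι n)) (fs ι l) (fs ι (n :: l)) (jx ι n l) (jy ι n l) where
  det g := by
    simp only [Matrix.map_apply, ← map_mul, ← map_sub]
    have h := g.2
    rw [Matrix.det_fin_two] at h
    rw [h, map_one]
  one := by
    show (1 : Matrix (Fin 2) (Fin 2) K).map (ka ι n) = 1
    rw [Matrix.map_one _ (map_zero _) (map_one _)]
  mul g h := by
    show (g.1 * h.1).map (ka ι n) = _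
    rw [Matrix.map_mul]
  act₀ g r := Subtype.ext (fRep_mx (ka ι n) g r)
  act₁ g r := Subtype.ext (fRep_my (ka ι n) g r)
  span := by
    rintro ⟨e, he⟩
    obtain ⟨a, ⟨f, hf, rfl⟩, b, ⟨f', hf', rfl⟩, rfl⟩ := Submodule.mem_sup.1 he
    exact ⟨⟨f, hf⟩, ⟨f', hf'⟩, rfl⟩

/-- **the alternating lemma for the tensor products** -/
theorem altZ_FS (ι : K →+* k) (l : List ℕ) : AltZ.{u, v} (fs ι l) (2 ^ l.length) := by
  induction l with
  | nil =>
    refine AltZ.of_one (e := ⟨fun _ => 1, Submodule.mem_span_singleton_self _⟩) (fun r => ?_) _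
    obtain ⟨c, hc⟩ := Submodule.mem_span_singleton.1 r.2
    exact ⟨c, Subtype.ext hc.symm⟩
  | cons n l ih =>
    have := finite_FS ι l
    rw [List.length_cons, pow_succ, mul_comm]
    exact ih.step (finrank_FS_le ι l) Nat.one_le_two_pow (tens_FS ι n l)

/-- the sum of the powers of two -/
def psm (l : List ℕ) : ℕ := (l.map fun i => 2 ^ i).sum

theorem psm_nil : psm [] = 0 := rfl

theorem psm_cons (n : ℕ) (l : List ℕ) : psm (n :: l) = 2 ^ n + psm l := by
  rw [psm, psm, List.map_cons, List.sum_cons]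

theorem psm_toFinset {l : List ℕ} (hl : l.Nodup) : psm l = ∑ i ∈ l.toFinset, 2 ^ i := by
  rw [psm, List.sum_toFinset _ hl]

theorem psm_inj {l l' : List ℕ} (hl : l.Nodup) (hl' : l'.Nodup) (h : psm l = psm l') : l.Perm l' := by
  rw [psm_toFinset hl, psm_toFinset hl'] at h
  have h1 : l.toFinset = l'.toFinset := by
    have e1 := Finset.toFinset_bitIndices_sum_two_pow l.toFinset
    have e2 := Finset.toFinset_bitIndices_sum_two_pow l'.toFinset
    rw [← e1, ← e2, h]
  exact (List.perm_ext_iff_of_nodup hl hl').2 fun a => by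
    rw [← List.mem_toFinset, ← List.mem_toFinset, h1]

instance fact2 : Fact (Nat.Prime 2) := ⟨Nat.prime_two⟩

theorem exists_list (b : ℕ) : ∃ l : List ℕ, l.Nodup ∧ psm l = b ∧ (Bp 2 b).card = 2 ^ l.length := by
  obtain ⟨z, hz, hn, hs⟩ := exists_pos (p := 2) b
  have h1 : ∀ x ∈ z, x.1 = 1 := by
    intro x hx
    have h2 : x.1 ∈ typ 2 b := by rw [← hz]; exact Multiset.mem_map_of_mem _ hx
    have h3 := mem_typ (p := 2) (by norm_num) h2
    omega
  refine ⟨(z.map Prod.snd).toList, ?_, ?_, ?_⟩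
  · rw [← Multiset.coe_nodup, Multiset.coe_toList]
    exact hn
  · have h2 : psm (z.map Prod.snd).toList = ((z.map Prod.snd).map fun i => 2 ^ i).sum := by
      rw [psm]
      conv_rhs => rw [← Multiset.coe_toList (z.map Prod.snd), Multiset.map_coe, Multiset.sum_coe]
    rw [h2, Multiset.map_map, ← hs]
    congr 1
    refine Multiset.map_congr rfl fun x hx => ?_
    rw [Function.comp_apply, h1 x hx, one_mul]
  · rw [card_Bp, Multiset.length_toList, Multiset.card_map]
    have h2 : typ 2 b = Multiset.replicate (Multiset.card z) 1 := by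
      rw [← hz, Multiset.eq_replicate]
      refine ⟨Multiset.card_map _ _, fun d hd => ?_⟩
      obtain ⟨x, hx, rfl⟩ := Multiset.mem_map.1 hd
      exact h1 x hx
    rw [h2, pr, Multiset.map_replicate, Multiset.prod_replicate]

theorem card_Bp_psm {l : List ℕ} (hl : l.Nodup) : (Bp 2 (psm l)).card = 2 ^ l.length := by
  obtain ⟨l', h1, h2, h3⟩ := exists_list (psm l)
  rw [h3, (psm_inj h1 hl h2).length_eq]

section vb

variable [DecidableEq k] [Fintype K] [DecidableEq K] [CharP K 2] (ι : K →+* k)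

theorem mon_mem_FS (l : List ℕ) : mon ι (psm l) (psm l) ∈ FS ι l := by
  induction l with
  | nil =>
    refine Submodule.mem_span_singleton.2 ⟨1, ?_⟩
    funext z
    rw [mon_self, psm_nil, pow_zero, one_smul]
  | cons n l ih =>
    have h1 : mon ι (psm (n :: l)) (psm (n :: l)) = mx (ka ι n) (mon ι (psm l) (psm l)) := by
      funext z
      rw [mx_apply, mon_self, mon_self, psm_cons, pow_add, ka_apply]
    rw [h1, FS_cons]
    exact Submodule.mem_sup_left ⟨_, ih, rfl⟩

theorem Vb_le_FS (l : List ℕ) : Vb ι (psm l) ≤ FS ι l := by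
  refine MM_le _ (stb_FS ι l) ?_
  rw [Db, Submodule.span_le, Set.singleton_subset_iff]
  exact mon_mem_FS ι l

theorem finrank_Vb_psm {l : List ℕ} (hl : l.Nodup) (hb : psm l ≤ Fintype.card K - 1) :
    finrank k (Vb ι (psm l)) = 2 ^ l.length := by
  rw [Cfsg.Agent.H179.SLC.finrank_Vb ι 2 ι.injective (neg_one_pow_Q ι) hb, Bf_eq (p := 2), card_Bp_psm hl]

/-- **`V_b` as a tensor product** -/
theorem Vb_eq {l : List ℕ} (hl : l.Nodup) (hb : psm l ≤ Fintype.card K - 1) : Vb ι (psm l) = FS ι l := by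
  have := finite_FS ι l
  refine Submodule.eq_of_le_of_finrank_le (Vb_le_FS ι l) ?_
  rw [finrank_Vb_psm ι hl hb]
  exact finrank_FS_le ι l

theorem finrank_FS {l : List ℕ} (hl : l.Nodup) (hb : psm l ≤ Fintype.card K - 1) :
    finrank k (FS ι l) = 2 ^ l.length := by
  rw [← Vb_eq ι hl hb, finrank_Vb_psm ι hl hb]

/-- `FS ι l` as `V_b` -/
theorem isV_FS {l : List ℕ} (hl : l.Nodup) (hb : psm l ≤ Fintype.card K - 1) : IsV ι 2 (fs ι l) (psm l) :=
  ⟨hb, LinearEquiv.ofEq _ _ (Vb_eq ι hl hb), fun _ _ => Subtype.ext rfl⟩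

/-- the modules isomorphic to `V_b` -/
theorem exists_iso_FS {V : Type*} [AddCommGroup V] [Module k V] {ρ : Representation k (SpecialLinearGroup (Fin 2) K) V}
    {b : ℕ} (h : IsV ι 2 ρ b) : ∃ l : List ℕ, l.Nodup ∧ psm l = b ∧ psm l ≤ Fintype.card K - 1 ∧
      finrank k V = 2 ^ l.length ∧ ∃ φ : FS ι l ≃ₗ[k] V, ∀ g x, φ (fs ι l g x) = ρ g (φ x) := by
  obtain ⟨l, hl, rfl, -⟩ := exists_list b
  obtain ⟨hb, φ, hφ⟩ := h
  refine ⟨l, hl, rfl, hb, ?_, (LinearEquiv.ofEq _ _ (Vb_eq ι hl hb)).symm.trans φ, fun g x => ?_⟩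
  · rw [← φ.finrank_eq, finrank_Vb_psm ι hl hb]
  · rw [LinearEquiv.trans_apply, LinearEquiv.trans_apply, ← hφ]
    rfl

include ι in
/-- **the alternating lemma for irreducible modules** -/
theorem altZ_irr [IsAlgClosed k] {V : Type*} [AddCommGroup V] [Module k V] [FiniteDimensional k V]
    {ρ : Representation k (SpecialLinearGroup (Fin 2) K) V} (h : Irrd ρ) :
    AltZ.{u, v} ρ (finrank k V) ∧ ∃ n, finrank k V = 2 ^ n := by
  obtain ⟨b, hb⟩ := (Sy ι 2).ex ρ h
  obtain ⟨l, hl, -, hq, hd, φ, hφ⟩ := exists_iso_FS ι hb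
  rw [hd]
  exact ⟨(altZ_FS ι l).of_iso φ hφ, l.length, rfl⟩

end vb

end Cfsg.Agent.R2.H6P2
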