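import Cfsg.Agent.R2.H6P2.Min
import Cfsg.Agent.R2.H9.E6.Cfg

/-!
# S5749, S5750, box P2: the Frobenius map over an algebraically closed field (helper6)

`fr m` : `x ↦ x ^ 2 ^ m`, `Ph m` : the same on vectors; `chi f ψ : SL₂(K) →* Zgrp k`.
* `Two.ph` : the image of a twisted natural module under the Frobenius map;
* `exists_ph` : it can be chosen fixed by the `r`-th power of the Frobenius map;
* `rat_ts` : no stable totally singular subspaces of dimension 4 or 6 which are stable under the Frobenius map.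
-/

set_option autoImplicit false
set_option linter.unusedSectionVars false

namespace Cfsg.Agent.R2.H6P2

open Module Matrix
open Cfsg.Lie
open Cfsg.Agent.ChevalleyStructure.E6Min.Basic (Zgrp)
open Cfsg.Agent.H943.SL2Rel Cfsg.Agent.H943.SL2Mod Cfsg.Agent.H943.RepAdd
open Cfsg.Agent.R2.H28.SL2 Cfsg.Agent.R2.SL2 Cfsg.Agent.R2.GEO
open Cfsg.Agent.H952.F4 (sh cr tf)
open Cfsg.Agent.H952.F4.Jord
open Cfsg.Agent.H163.E6 (V V' TS)
open Cfsg.Agent.H65.E6Emb
open Cfsg.Agent.R2.H9.E6 (Setup pq pq_surjective)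

universe u v w x

variable {k : Type u} [Field k] [CharP k 2]

/-- powers of the Frobenius endomorphism -/
noncomputable def fr (m : ℕ) : k →+* k := iterateFrobenius k 2 m

theorem fr_apply (m : ℕ) (x : k) : fr m x = x ^ 2 ^ m := iterateFrobenius_def _ _ _

/-- the Frobenius map on vectors -/
noncomputable def Ph (m : ℕ) (v : I27 → k) : I27 → k := fun i => fr m (v i)

theorem Ph_add (m : ℕ) (v w : I27 → k) : Ph m (v + w) = Ph m v + Ph m w := by
  funext i
  exact map_add _ _ _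

theorem Ph_smul (m : ℕ) (c : k) (v : I27 → k) : Ph m (c • v) = fr m c • Ph m v := by
  funext i
  exact map_mul _ _ _

theorem Ph_zero (m : ℕ) : Ph m (0 : I27 → k) = 0 := by
  funext i
  exact map_zero _

theorem Ph_inj {m : ℕ} {v w : I27 → k} (h : Ph m v = Ph m w) : v = w := by
  funext i
  exact (fr m).injective (congrFun h i)

theorem Ph_eq_zero {m : ℕ} {v : I27 → k} : Ph m v = 0 ↔ v = 0 :=
  ⟨fun h => Ph_inj (h.trans (Ph_zero m).symm), fun h => by rw [h, Ph_zero]⟩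

theorem Ph_sh (m : ℕ) (v : I27 → k) : sh (Ph m v) = Ph m (sh v) := sh_map (fr m) v

theorem Ph_cr (m : ℕ) (v w : I27 → k) : cr (Ph m v) (Ph m w) = Ph m (cr v w) := cr_map (fr m) v w

theorem Ph_comp (m n : ℕ) (v : I27 → k) : Ph m (Ph n v) = Ph (m + n) v := by
  funext i
  show fr m (fr n (v i)) = fr (m + n) (v i)
  rw [fr_apply, fr_apply, fr_apply, ← pow_mul, ← pow_add, add_comm]

theorem Ph_rho {ρ : Representation k ↥(Zgrp k) (I27 → k)} (hρ : ρ = V k ∨ ρ = V' k) (m : ℕ) (g : ↥(Zgrp k))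
    (v : I27 → k) : Ph m (ρ g v) = ρ (emb (fr m) g) (Ph m v) := by
  rcases hρ with rfl | rfl
  · exact (V_emb (fr m) g v).symm
  · exact (V'_emb (fr m) g v).symm

theorem span_Ph {m : ℕ} {S : Set (I27 → k)} (h : ∀ v ∈ S, Ph m v ∈ Submodule.span k S) :
    ∀ v ∈ Submodule.span k S, Ph m v ∈ Submodule.span k S := by
  intro v hv
  induction hv using Submodule.span_induction with
  | mem x hx => exact h x hx
  | zero => rw [Ph_zero]; exact Submodule.zero_mem _
  | add x y _ _ hx hy => rw [Ph_add]; exact Submodule.add_mem _ hx hy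
  | smul c x _ hx => rw [Ph_smul]; exact Submodule.smul_mem _ _ hx

variable {K : Type w} [Field K] {F : Type v} [Field F] (f : F →+* k)

/-- the homomorphism `SL₂(K) →* Zgrp k` -/
noncomputable def chi (ψ : ProjectiveSpecialLinearGroup (Fin 2) K →* ↥(Zgrp F)) :
    SpecialLinearGroup (Fin 2) K →* ↥(Zgrp k) := (emb f).comp (ψ.comp pq)

theorem chi_apply (ψ : ProjectiveSpecialLinearGroup (Fin 2) K →* ↥(Zgrp F)) (g : SpecialLinearGroup (Fin 2) K) :
    chi f ψ g = emb f (ψ (pq g)) := rfl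

section frob

variable [Fintype F] {e : ℕ} (hF : Fintype.card F = 2 ^ e)

include hF

theorem fr_f (j : ℕ) (c : F) : fr (e * j) (f c) = f c := by
  rw [fr_apply, ← map_pow, pow_mul, ← hF, FiniteField.pow_card_pow]

theorem emb_fr (j : ℕ) (g : ↥(Zgrp F)) : emb (fr (e * j)) (emb f g) = emb f g := by
  rw [emb_emb]
  have h1 : (fr (e * j)).comp f = f := by
    ext c
    exact fr_f f hF j c
  rw [h1]

theorem Ph_emb {ρ : Representation k ↥(Zgrp k) (I27 → k)} (hρ : ρ = V k ∨ ρ = V' k) (j : ℕ) (g : ↥(Zgrp F))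
    (v : I27 → k) : Ph (e * j) (ρ (emb f g) v) = ρ (emb f g) (Ph (e * j) v) := by
  rw [Ph_rho hρ, emb_fr f hF]

variable {ψ : ProjectiveSpecialLinearGroup (Fin 2) K →* ↥(Zgrp F)}
  {ρ ρ' : Representation k ↥(Zgrp k) (I27 → k)} {ι : K →+* k}

theorem Two.ph (hρ : ρ = V k ∨ ρ = V' k) {n : ℕ} {x y : I27 → k} (h : Two (rp ρ (chi f ψ)) (ka ι n) x y) (j : ℕ) :
    Two (rp ρ (chi f ψ)) (ka ι (n + e * j)) (Ph (e * j) x) (Ph (e * j) y) := by
  have hk : ∀ t, ka ι (n + e * j) t = fr (e * j) (ka ι n t) := fun t => by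
    rw [ka_apply, fr_apply, ka_apply, ← pow_mul, ← pow_add]
  refine ⟨fun g => ?_, fun g => ?_, fun h0 => h.ne (Ph_eq_zero.1 h0)⟩
  · have h1 : ρ (emb f (ψ (pq g))) x = _ := h.act₀ g
    rw [rp_apply, chi_apply, ← Ph_emb f hF hρ, h1, Ph_add, Ph_smul, Ph_smul, hk, hk]
  · have h1 : ρ (emb f (ψ (pq g))) y = _ := h.act₁ g
    rw [rp_apply, chi_apply, ← Ph_emb f hF hρ, h1, Ph_add, Ph_smul, Ph_smul, hk, hk]

theorem TTwo.ph (hρ : ρ = V k ∨ ρ = V' k) {n : ℕ} {x y : I27 → k} (h : TTwo ρ (chi f ψ) (ka ι n) x y) (j : ℕ) :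
    TTwo ρ (chi f ψ) (ka ι (n + e * j)) (Ph (e * j) x) (Ph (e * j) y) :=
  ⟨h.toTwo.ph f hF hρ j, by rw [Ph_sh, h.shx, Ph_zero], by rw [Ph_sh, h.shy, Ph_zero],
    by rw [Ph_cr, h.crxy, Ph_zero]⟩

/-- **choice of a module fixed by a power of the Frobenius map** -/
theorem exists_ph (hρ : ρ = V k ∨ ρ = V' k) {n r : ℕ} {x y : I27 → k} (h : Two (rp ρ (chi f ψ)) (ka ι n) x y)
    (hr : ka ι (n + e * r) = ka ι n) : ∃ x' y', Two (rp ρ (chi f ψ)) (ka ι n) x' y' ∧ Ph (e * r) x' = x' ∧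
      Ph (e * r) y' = y' := by
  let U : Submodule k (I27 × Fin 2 → k) :=
    { carrier := {z | (∀ g : SpecialLinearGroup (Fin 2) K, rp ρ (chi f ψ) g (fun i => z (i, 0)) =
          ka ι n (g.1 0 0) • (fun i => z (i, 0)) + ka ι n (g.1 1 0) • fun i => z (i, 1)) ∧
        ∀ g : SpecialLinearGroup (Fin 2) K, rp ρ (chi f ψ) g (fun i => z (i, 1)) =
          ka ι n (g.1 0 1) • (fun i => z (i, 0)) + ka ι n (g.1 1 1) • fun i => z (i, 1)}
      add_mem' := by
        rintro z z' ⟨h1, h2⟩ ⟨h1', h2'⟩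
        have e0 : ∀ l : Fin 2, (fun i => (z + z') (i, l)) = (fun i => z (i, l)) + fun i => z' (i, l) := fun l => rfl
        refine ⟨fun g => ?_, fun g => ?_⟩
        · rw [e0, e0, map_add, h1, h1']
          module
        · rw [e0, e0, map_add, h2, h2']
          module
      zero_mem' := by
        have e0 : ∀ l : Fin 2, (fun i => (0 : I27 × Fin 2 → k) (i, l)) = (0 : I27 → k) := fun l => rfl
        refine ⟨fun g => ?_, fun g => ?_⟩
        · rw [e0, e0, map_zero, smul_zero, smul_zero, add_zero]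
        · rw [e0, e0, map_zero, smul_zero, smul_zero, add_zero]
      smul_mem' := by
        rintro c z ⟨h1, h2⟩
        have e0 : ∀ l : Fin 2, (fun i => (c • z) (i, l)) = c • fun i => z (i, l) := fun l => rfl
        refine ⟨fun g => ?_, fun g => ?_⟩
        · rw [e0, e0, map_smul, h1]
          module
        · rw [e0, e0, map_smul, h2]
          module }
  have hk : ∀ t, ka ι n t = fr (e * r) (ka ι n t) := fun t => by
    have h1 : ka ι (n + e * r) t = fr (e * r) (ka ι n t) := by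
      rw [ka_apply, fr_apply, ka_apply, ← pow_mul, ← pow_add]
    rw [← h1, hr]
  have hU : ∀ u ∈ U, (fun i => fr (e * r) (u i)) ∈ U := by
    rintro z ⟨h1, h2⟩
    refine ⟨fun g => ?_, fun g => ?_⟩
    · have e1 : ρ (emb f (ψ (pq g))) (fun i => z (i, 0)) = _ := h1 g
      show ρ (emb f (ψ (pq g))) (Ph (e * r) (fun i => z (i, 0))) =
        ka ι n (g.1 0 0) • Ph (e * r) (fun i => z (i, 0)) + ka ι n (g.1 1 0) • Ph (e * r) (fun i => z (i, 1))
      rw [← Ph_emb f hF hρ, e1, Ph_add, Ph_smul, Ph_smul, ← hk, ← hk]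
    · have e1 : ρ (emb f (ψ (pq g))) (fun i => z (i, 1)) = _ := h2 g
      show ρ (emb f (ψ (pq g))) (Ph (e * r) (fun i => z (i, 1))) =
        ka ι n (g.1 0 1) • Ph (e * r) (fun i => z (i, 0)) + ka ι n (g.1 1 1) • Ph (e * r) (fun i => z (i, 1))
      rw [← Ph_emb f hF hρ, e1, Ph_add, Ph_smul, Ph_smul, ← hk, ← hk]
  have hU0 : U ≠ ⊥ := by
    intro h0
    let z : I27 × Fin 2 → k := fun p => if p.2 = 0 then x p.1 else y p.1
    have e0 : (fun i => z (i, 0)) = x := rfl
    have e1 : (fun i => z (i, 1)) = y := rfl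
    have hz : z ∈ U := ⟨fun g => by rw [e0, e1]; exact h.act₀ g, fun g => by rw [e0, e1]; exact h.act₁ g⟩
    rw [h0, Submodule.mem_bot] at hz
    apply h.ne
    rw [← e0, hz]
    rfl
  obtain ⟨z, ⟨hz1, hz2⟩, hz0, hzf⟩ := exists_fixed (fr (e * r)) hU hU0
  refine ⟨fun i => z (i, 0), fun i => z (i, 1), ⟨hz1, hz2, fun h0 => hz0 ?_⟩, ?_, ?_⟩
  · have h1 := hz1 w
    have h2 : ka ι n ((w : SpecialLinearGroup (Fin 2) K).1 1 0) = -1 := by
      show ka ι n (-1) = -1
      rw [map_neg, map_one]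
    rw [h0, map_zero, smul_zero, zero_add, h2, neg_one_smul, eq_comm, neg_eq_zero] at h1
    funext p
    obtain ⟨i, l⟩ := p
    fin_cases l
    · exact congrFun h0 i
    · exact congrFun h1 i
  · funext i
    exact congrFun hzf (i, 0)
  · funext i
    exact congrFun hzf (i, 1)

/-- **descent of stable totally singular subspaces** -/
theorem rat_ts {Γ M : Subgroup ↥(Zgrp F)} (hS : Setup Γ M ψ) (hρ : ρ = V k ∨ ρ = V' k) {U : Submodule k (I27 → k)}
    (hU : Stb (rp ρ (chi f ψ)) U) (hfix : ∀ u ∈ U, Ph e u ∈ U) (hts : ∀ w ∈ U, sh w = 0)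
    (hd : finrank k U = 4 ∨ finrank k U = 6) : False := by
  obtain ⟨W, hW⟩ := exists_ext (fr e) f (U := U) (fun x hx => mem_range_of_pow f (by rw [hF, ← fr_apply, hx])) hfix
  obtain ⟨ρ₀, hρ₀, hcomp⟩ : ∃ ρ₀ : Representation F ↥(Zgrp F) (I27 → F), (ρ₀ = V F ∨ ρ₀ = V' F) ∧
      ∀ g x, ρ (emb f g) (fun i => f (x i)) = fun i => f (ρ₀ g x i) := by
    rcases hρ with rfl | rfl
    · exact ⟨V F, Or.inl rfl, V_emb f⟩
    · exact ⟨V' F, Or.inr rfl, V'_emb f⟩
  have hWs : ∀ a, ∀ w ∈ W, ρ₀ (ψ a) w ∈ W := by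
    intro a w hw
    obtain ⟨g, rfl⟩ := pq_surjective a
    rw [← mem_ext_iff (f := f), hW, ← hcomp]
    exact hU g _ (by rw [← hW]; exact mem_ext_of_mem hw)
  have hWts : ∀ w ∈ W, sh w = 0 := by
    intro w hw
    have h1 : sh (fun i => f (w i)) = 0 := hts _ (by rw [← hW]; exact mem_ext_of_mem hw)
    rw [sh_map] at h1
    funext i
    have h2 := congrFun h1 i
    exact (map_eq_zero f).1 h2
  have hWd : finrank F W = finrank k U := by rw [← hW, finrank_ext]
  have h6 : ∀ Y : Submodule F (I27 → F), (∀ a, ∀ w ∈ Y, ρ₀ (ψ a) w ∈ Y) → finrank F Y = 6 →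
      (∀ w ∈ Y, sh w = 0) → False := fun Y hY hYd hYts =>
    hS.no_six hρ₀ hY hYd (Cfsg.Agent.H65.SixA.cr_of_sh hYts)
  rcases hd with hd | hd
  · obtain ⟨ρ₁, hp⟩ := exists_pair hρ₀
    obtain ⟨Y, n, n', -, H⟩ := exists_hull_four hS.perf ψ hp hWs (by rw [hWd, hd]) hWts
    exact h6 Y H.stab H.dim H.ts
  · exact h6 W hWs (by rw [hWd, hd]) hWts

omit [CharP k 2] hF [Fintype F] in
/-- no fixed vectors over the extension field -/
theorem noFx {Γ M : Subgroup ↥(Zgrp F)} (_hS : Setup Γ M ψ)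
    (hfix : ∀ ρ : Representation F ↥(Zgrp F) (I27 → F), (ρ = V F ∨ ρ = V' F) → ∀ v, (∀ x, ρ (ψ x) v = v) → v = 0) :
    NoFx (chi f ψ) := by
  intro ρ hρ v hv
  rcases hρ with rfl | rfl
  · have h1 := ext_inv_V (f := f) ψ
    have h2 : Representation.invariants (MonoidHom.comp (V F) ψ) = ⊥ := by
      rw [eq_bot_iff]
      intro z hz
      exact (Submodule.mem_bot F).2 (hfix _ (Or.inl rfl) z ((Representation.mem_invariants _ _).1 hz))
    rw [h2, ext_bot] at h1
    have h3 : v ∈ Representation.invariants (MonoidHom.comp (V k) ((emb f).comp ψ)) := by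
      rw [Representation.mem_invariants]
      intro a
      obtain ⟨g, rfl⟩ := pq_surjective a
      exact hv g
    rw [← h1] at h3
    exact (Submodule.mem_bot k).1 h3
  · have h1 := ext_inv_V' (f := f) ψ
    have h2 : Representation.invariants (MonoidHom.comp (V' F) ψ) = ⊥ := by
      rw [eq_bot_iff]
      intro z hz
      exact (Submodule.mem_bot F).2 (hfix _ (Or.inr rfl) z ((Representation.mem_invariants _ _).1 hz))
    rw [h2, ext_bot] at h1
    have h3 : v ∈ Representation.invariants (MonoidHom.comp (V' k) ((emb f).comp ψ)) := by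
      rw [Representation.mem_invariants]
      intro a
      obtain ⟨g, rfl⟩ := pq_surjective a
      exact hv g
    rw [← h1] at h3
    exact (Submodule.mem_bot k).1 h3

end frob

end Cfsg.Agent.R2.H6P2
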