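import Cfsg.Agent.R2.H6P2.Rone
import Cfsg.Agent.H927.E6Cnt

/-!
# S5749, S5750, box P2: the maximal subgroup stabilizes a totally singular subspace of dimension 2 (helper6)

`sk_noether` : matrices normalizing `SL₂(K)` are scalar multiples of matrices over `K` (characteristic 2);
`m_stable` : `M` stabilizes a totally singular subspace of dimension 2 over `F`.
-/

set_option autoImplicit false
set_option linter.unusedSectionVars false

namespace Cfsg.Agent.R2.H6P2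

open Module Matrix
open Cfsg.Lie
open Cfsg.Agent.ChevalleyStructure.E6Min.Basic (Zgrp)
open Cfsg.Agent.ChevalleyStructure.E6Min.Adjoint (ad)
open Cfsg.Agent.H943.SL2Rel Cfsg.Agent.H943.SL2Mod Cfsg.Agent.H943.RepAdd
open Cfsg.Agent.R2.H28.SL2 Cfsg.Agent.R2.SL2 Cfsg.Agent.R2.GEO
open Cfsg.Agent.H952.F4 (sh cr tf)
open Cfsg.Agent.H952.F4.Jord
open Cfsg.Agent.H163.E6 (V V' TS)
open Cfsg.Agent.H65.E6Emb
open Cfsg.Agent.R2.H9.E6 (Setup pq pq_surjective)

universe u v w x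

section sk

variable {k : Type u} [Field k] [CharP k 2] [IsAlgClosed k] {K : Type w} [Field K] [Fintype K] [CharP K 2]

theorem exists_sq (c : K) : ∃ s : K, c = s ^ 2 := by
  have h2 : ringChar K = 2 := ringChar.eq K 2
  obtain ⟨s, hs⟩ := FiniteField.isSquare_of_char_two h2 c
  exact ⟨s, by rw [hs, pow_two]⟩

theorem sq_inj2 {x y : k} (h : x ^ 2 = y ^ 2) : x = y := by
  have h20 : (2 : k) = 0 := CharTwo.two_eq_zero
  have h1 : (x - y) ^ 2 = 0 := by linear_combination h + (y ^ 2 - x * y) * h20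
  exact sub_eq_zero.1 (pow_eq_zero_iff two_ne_zero |>.1 h1)

/-- **matrices normalizing `SL₂(K)`** -/
theorem sk_noether (κ : K →+* k) {p q r s : k} (hD : p * s - q * r ≠ 0)
    (σ : SpecialLinearGroup (Fin 2) K → SpecialLinearGroup (Fin 2) K)
    (h00 : ∀ g : SpecialLinearGroup (Fin 2) K,
      κ (g.1 0 0) * p + κ (g.1 0 1) * r = p * κ ((σ g).1 0 0) + q * κ ((σ g).1 1 0))
    (h01 : ∀ g : SpecialLinearGroup (Fin 2) K,
      κ (g.1 0 0) * q + κ (g.1 0 1) * s = p * κ ((σ g).1 0 1) + q * κ ((σ g).1 1 1))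
    (h10 : ∀ g : SpecialLinearGroup (Fin 2) K,
      κ (g.1 1 0) * p + κ (g.1 1 1) * r = r * κ ((σ g).1 0 0) + s * κ ((σ g).1 1 0))
    (h11 : ∀ g : SpecialLinearGroup (Fin 2) K,
      κ (g.1 1 0) * q + κ (g.1 1 1) * s = r * κ ((σ g).1 0 1) + s * κ ((σ g).1 1 1)) :
    ∃ t : SpecialLinearGroup (Fin 2) K, ∀ g, g * t = t * σ g := by
  obtain ⟨l, hl⟩ := IsAlgClosed.exists_pow_nat_eq (p * s - q * r) (n := 2) two_pos
  have hl0 : l ≠ 0 := by
    rintro rfl
    rw [zero_pow two_ne_zero] at hl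
    exact hD hl.symm
  -- the element `u(1)`
  have a1 := h00 (u 1)
  have a2 := h01 (u 1)
  have a3 := h10 (u 1)
  have a4 := h11 (u 1)
  rw [show (u (1 : K)).1 0 0 = 1 from rfl, show (u (1 : K)).1 0 1 = 1 from rfl, map_one, one_mul, one_mul] at a1 a2
  rw [show (u (1 : K)).1 1 0 = 0 from rfl, show (u (1 : K)).1 1 1 = 1 from rfl, map_one, map_zero, zero_mul, one_mul,
    zero_add] at a3 a4
  -- the transposed element
  let v1 : SpecialLinearGroup (Fin 2) K := ⟨!![1, 0; 1, 1], by simp [Matrix.det_fin_two]⟩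
  have b1 := h00 v1
  have b2 := h01 v1
  have b3 := h10 v1
  have b4 := h11 v1
  rw [show v1.1 0 0 = 1 from rfl, show v1.1 0 1 = 0 from rfl, map_one, map_zero, one_mul, zero_mul, add_zero] at b1 b2
  rw [show v1.1 1 0 = 1 from rfl, show v1.1 1 1 = 1 from rfl, map_one, one_mul, one_mul] at b3 b4
  have h20 : (2 : k) = 0 := CharTwo.two_eq_zero
  have c1 : r ^ 2 = (p * s - q * r) * κ ((σ (u 1)).1 1 0) := by
    linear_combination (-p) * a3 + r * a1 + (- p * s * κ ((σ (u 1)).1 1 0) + q * r * κ ((σ (u 1)).1 1 0)) * h20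
  have c2 : s ^ 2 = (p * s - q * r) * κ ((σ (u 1)).1 0 1) := by
    linear_combination s * a2 - q * a4
  have c3 : p ^ 2 = (p * s - q * r) * κ ((σ v1).1 1 0) := by
    linear_combination p * b3 - r * b1
  have c4 : q ^ 2 = (p * s - q * r) * κ ((σ v1).1 0 1) := by
    linear_combination (-q) * b4 + s * b2 + q ^ 2 * h20
  have key : ∀ z : k, ∀ c : K, z ^ 2 = (p * s - q * r) * κ c → ∃ z₀ : K, z = l * κ z₀ := by
    intro z c hz
    obtain ⟨z₀, hz₀⟩ := exists_sq c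
    refine ⟨z₀, sq_inj2 ?_⟩
    rw [hz, hz₀, mul_pow, hl, map_pow]
  obtain ⟨r₀, rfl⟩ := key r _ c1
  obtain ⟨s₀, rfl⟩ := key s _ c2
  obtain ⟨p₀, rfl⟩ := key p _ c3
  obtain ⟨q₀, rfl⟩ := key q _ c4
  have hdet : p₀ * s₀ - q₀ * r₀ = 1 := by
    apply κ.injective
    have h1 : l ^ 2 * (κ p₀ * κ s₀ - κ q₀ * κ r₀) = l ^ 2 * 1 := by
      linear_combination -hl
    rw [map_sub, map_mul, map_mul, map_one]
    exact mul_left_cancel₀ (pow_ne_zero 2 hl0) h1
  refine ⟨⟨!![p₀, q₀; r₀, s₀], by rw [Matrix.det_fin_two_of]; exact hdet⟩, fun g => ?_⟩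
  have e00 := h00 g
  have e01 := h01 g
  have e10 := h10 g
  have e11 := h11 g
  apply Subtype.ext
  show g.1 * !![p₀, q₀; r₀, s₀] = !![p₀, q₀; r₀, s₀] * (σ g).1
  ext i j
  apply κ.injective
  apply mul_left_cancel₀ hl0
  fin_cases i <;> fin_cases j
  · show l * κ ((g.1 * !![p₀, q₀; r₀, s₀]) 0 0) = l * κ ((!![p₀, q₀; r₀, s₀] * (σ g).1) 0 0)
    rw [Matrix.mul_apply, Matrix.mul_apply, Fin.sum_univ_two, Fin.sum_univ_two]
    show l * κ (g.1 0 0 * p₀ + g.1 0 1 * r₀) = l * κ (p₀ * (σ g).1 0 0 + q₀ * (σ g).1 1 0)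
    simp only [map_add, map_mul]
    linear_combination e00
  · show l * κ ((g.1 * !![p₀, q₀; r₀, s₀]) 0 1) = l * κ ((!![p₀, q₀; r₀, s₀] * (σ g).1) 0 1)
    rw [Matrix.mul_apply, Matrix.mul_apply, Fin.sum_univ_two, Fin.sum_univ_two]
    show l * κ (g.1 0 0 * q₀ + g.1 0 1 * s₀) = l * κ (p₀ * (σ g).1 0 1 + q₀ * (σ g).1 1 1)
    simp only [map_add, map_mul]
    linear_combination e01
  · show l * κ ((g.1 * !![p₀, q₀; r₀, s₀]) 1 0) = l * κ ((!![p₀, q₀; r₀, s₀] * (σ g).1) 1 0)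
    rw [Matrix.mul_apply, Matrix.mul_apply, Fin.sum_univ_two, Fin.sum_univ_two]
    show l * κ (g.1 1 0 * p₀ + g.1 1 1 * r₀) = l * κ (r₀ * (σ g).1 0 0 + s₀ * (σ g).1 1 0)
    simp only [map_add, map_mul]
    linear_combination e10
  · show l * κ ((g.1 * !![p₀, q₀; r₀, s₀]) 1 1) = l * κ ((!![p₀, q₀; r₀, s₀] * (σ g).1) 1 1)
    rw [Matrix.mul_apply, Matrix.mul_apply, Fin.sum_univ_two, Fin.sum_univ_two]
    show l * κ (g.1 1 0 * q₀ + g.1 1 1 * s₀) = l * κ (r₀ * (σ g).1 0 1 + s₀ * (σ g).1 1 1)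
    simp only [map_add, map_mul]
    linear_combination e11

end sk

end Cfsg.Agent.R2.H6P2
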