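import Cfsg.Agent.R2.H9.E6.Cfg
import Cfsg.Agent.R2.GEO.Rank
import Cfsg.Agent.H65.SixA

/-!
# S5749, S5750, box P2: counting totally singular subspaces of dimension 2 (helper6)

`card_ts2` : their number is at most `27 |F|^33`; `tw_false` : in `²E₆(q)` a maximal subgroup of the type considered does
not stabilize such a subspace, if `q_A ≤ q²`.
-/

set_option autoImplicit false
set_option linter.unusedSectionVars false

namespace Cfsg.Agent.R2.H6P2

open Module Matrix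
open Cfsg Cfsg.Lie
open Cfsg.Agent.ChevalleyStructure.E6Min.Basic (Zgrp)
open Cfsg.Agent.ChevalleyStructure.E6Min.Adjoint (ad)
open Cfsg.Agent.R2.GEO
open Cfsg.Agent.H952.F4 (sh cr tf)
open Cfsg.Agent.H952.F4.Jord
open Cfsg.Agent.H163.E6 (V V' TS)
open Cfsg.Agent.H944.E6Tw Cfsg.Agent.H163.E6.Tw
open Cfsg.Agent.R2.H9.E6

universe u v w x

/-- **the number of totally singular subspaces of dimension 2** -/
theorem card_ts2 {F : Type u} [Field F] [Finite F] :
    Nat.card {W : Submodule F (I27 → F) // finrank F W = 2 ∧ ∀ w ∈ W, sh w = 0} * Nat.card F ≤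
      27 * Nat.card F ^ 34 := by
  classical
  have := Fintype.ofFinite F
  have hT : Nat.card (Σ v : {v : I27 → F // v ≠ 0 ∧ sh v = 0}, ↥(kr v.1)) =
      Nat.card {v : I27 → F // v ≠ 0 ∧ sh v = 0} * Nat.card F ^ 17 := by
    have := Fintype.ofFinite {v : I27 → F // v ≠ 0 ∧ sh v = 0}
    rw [Nat.card_sigma, Finset.sum_congr rfl (fun v _ => by
      rw [Module.natCard_eq_pow_finrank (K := F), finrank_kr_white v.2.1 v.2.2]), Finset.sum_const, Finset.card_univ,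
      smul_eq_mul, Nat.card_eq_fintype_card (α := {v : I27 → F // v ≠ 0 ∧ sh v = 0})]
  have h1 := Cfsg.Agent.H163.E6.Tw.card_sing (F := F)
  have h2 : Nat.card (Σ v : {v : I27 → F // v ≠ 0 ∧ sh v = 0}, ↥(kr v.1)) ≤ 27 * Nat.card F ^ 34 := by
    rw [hT]
    calc Nat.card {v : I27 → F // v ≠ 0 ∧ sh v = 0} * Nat.card F ^ 17 ≤ 27 * Nat.card F ^ 17 * Nat.card F ^ 17 :=
          Nat.mul_le_mul_right _ h1
      _ = _ := by ring
  refine le_trans ?_ h2
  rw [← Nat.card_prod]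
  -- a choice of bases
  have hb : ∀ W : {W : Submodule F (I27 → F) // finrank F W = 2 ∧ ∀ w ∈ W, sh w = 0}, ∃ p : (I27 → F) × (I27 → F),
      p.1 ≠ 0 ∧ Submodule.span F {p.1, p.2} = W.1 := by
    rintro ⟨W, hW, -⟩
    let b := Module.finBasisOfFinrankEq F W hW
    refine ⟨((b 0 : W), (b 1 : W)), fun h => b.ne_zero 0 (Subtype.ext h), ?_⟩
    have h3 := congrArg (Submodule.map W.subtype) b.span_eq
    rw [Submodule.map_span, Submodule.map_top, Submodule.range_subtype, ← Set.range_comp] at h3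
    refine (congrArg (Submodule.span F) ?_).trans h3
    ext v
    simp only [Set.mem_insert_iff, Set.mem_singleton_iff, Set.mem_range, Function.comp_apply, Fin.exists_fin_two]
    exact ⟨fun h => h.imp Eq.symm Eq.symm, fun h => h.imp Eq.symm Eq.symm⟩
  choose p hp0 hp using hb
  have hmem : ∀ W : {W : Submodule F (I27 → F) // finrank F W = 2 ∧ ∀ w ∈ W, sh w = 0}, (p W).1 ∈ W.1 ∧ (p W).2 ∈ W.1 := by
    intro W
    rw [← hp W]
    exact ⟨Submodule.subset_span (Or.inl rfl), Submodule.subset_span (Or.inr rfl)⟩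
  refine Nat.card_le_card_of_injective (fun Ws => (⟨⟨(p Ws.1).1, hp0 Ws.1, Ws.1.2.2 _ (hmem Ws.1).1⟩,
    (p Ws.1).2 + Ws.2 • (p Ws.1).1, ?_⟩ : Σ v : {v : I27 → F // v ≠ 0 ∧ sh v = 0}, ↥(kr v.1))) ?_
  · show cr (p Ws.1).1 ((p Ws.1).2 + Ws.2 • (p Ws.1).1) = 0
    exact (Cfsg.Agent.H65.SixA.cr_of_sh Ws.1.2.2).2 _ (hmem Ws.1).1 _
      (Submodule.add_mem _ (hmem Ws.1).2 (Submodule.smul_mem _ _ (hmem Ws.1).1))
  · rintro ⟨W, s⟩ ⟨W', s'⟩ h
    have e1 : (p W).1 = (p W').1 := congrArg (fun z => z.1.1) h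
    have e2 : (p W).2 + s • (p W).1 = (p W').2 + s' • (p W').1 :=
      congrArg (fun z : Σ v : {v : I27 → F // v ≠ 0 ∧ sh v = 0}, ↥(kr v.1) => (z.2 : I27 → F)) h
    have hle : ∀ (W W' : {W : Submodule F (I27 → F) // finrank F W = 2 ∧ ∀ w ∈ W, sh w = 0}) (s s' : F),
        (p W).1 = (p W').1 → (p W).2 + s • (p W).1 = (p W').2 + s' • (p W').1 → W.1 ≤ W'.1 := by
      intro W W' s s' e1 e2
      rw [← hp W, Submodule.span_le]
      intro z hz
      rcases hz with hz | hz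
      · rw [hz, e1]
        exact (hmem W').1
      · rw [Set.mem_singleton_iff.1 hz]
        have e3 : (p W).2 = (p W').2 + s' • (p W').1 - s • (p W).1 := by
          rw [← e2, add_sub_cancel_right]
        rw [e3, e1]
        exact Submodule.sub_mem _ (Submodule.add_mem _ (hmem W').2 (Submodule.smul_mem _ _ (hmem W').1))
          (Submodule.smul_mem _ _ (hmem W').1)
    have e3 : W = W' := Subtype.ext (le_antisymm (hle W W' s s' e1 e2) (hle W' W s' s e1.symm e2.symm))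
    subst e3
    have e4 : (s - s') • (p W).1 = 0 := by
      rw [sub_smul, sub_eq_zero]
      exact add_left_cancel e2
    have e5 : s = s' := sub_eq_zero.1 ((smul_eq_zero.1 e4).resolve_right (hp0 W))
    rw [e5]

/-- **the twisted case** -/
theorem tw_false {L : Type u} [Field L] [Fintype L] {a b : ℕ} {f : L →+* L}
    (hf : ∀ t, f t = t ^ (2 ^ b)) (hqq : ∀ t : L, (t ^ (2 ^ b)) ^ (2 ^ b) = t) (hL : Fintype.card L = (2 ^ b) ^ 2)
    {M : Subgroup ↥(Zgrp L)} {K : Type v} [Field K] [Fintype K]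
    {ψ : ProjectiveSpecialLinearGroup (Fin 2) K →* ↥(Zgrp L)} (h : Setup (Gs f) M ψ) (ha : 1 ≤ a) (hb : 1 ≤ b)
    (hK : Fintype.card K = 2 ^ a) (h7 : 7 ≤ Fintype.card K) (hab : a ≤ 2 * b)
    {ρ : Representation L ↥(Zgrp L) (I27 → L)} (hρ : ρ = V L ∨ ρ = V' L) {W : Submodule L (I27 → L)}
    (hd : finrank L W = 2) (hts : ∀ w ∈ W, sh w = 0) (hW : ∀ g ∈ M, ∀ w ∈ W, ρ g w ∈ W) : False := by
  have hfact : Fact (Nat.Prime 2) := ⟨Nat.prime_two⟩
  have hpp : IsPrimePow (2 ^ b) := Nat.prime_two.isPrimePow.pow (by omega)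
  have h9 : finrank L (I27 → L) = 27 := by rw [finrank_fintype_fun_eq_card]; rfl
  have hbot : W ≠ ⊥ := by
    rintro rfl
    rw [finrank_bot] at hd
    omega
  have htop : W ≠ ⊤ := by
    rintro rfl
    rw [finrank_top, h9] at hd
    omega
  have hSG := h.SG_eq hρ hW hbot htop
  let _ := subAct (Gs f) ρ
  have h2 := h.card_le' (X := Submodule L (I27 → L)) W {U | finrank L ↥U = 2 ∧ ∀ w ∈ U, sh w = 0} (fun g => by
    refine ⟨?_, ?_⟩
    · show finrank L ↥(W.map (ρ g)) = 2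
      rw [finrank_map_rho, hd]
    · show ∀ w ∈ W.map (ρ g), sh w = 0
      rintro _ ⟨w, hw, rfl⟩
      have h3 : sh (ρ g w) = 0 := by
        rcases hρ with rfl | rfl
        · rw [Cfsg.Agent.H163.E6.Act.sh_act, hts w hw, map_zero]
        · rw [Cfsg.Agent.H163.E6.Act.sh_act', hts w hw, map_zero]
      exact h3) (fun g hg => by
    have hg' : W.map (ρ g) = W := hg
    rw [← hSG]
    refine mem_SG.2 ⟨g.2, fun w => ⟨fun hw => ?_, fun hw => ?_⟩⟩
    · rw [← hg'] at hw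
      obtain ⟨w', hw', h3⟩ := hw
      have h4 := congrArg (ρ (g : ↥(Zgrp L))⁻¹) h3
      rw [← Cfsg.Agent.H163.E6.rho_mul, ← Cfsg.Agent.H163.E6.rho_mul, inv_mul_cancel, map_one] at h4
      have h5 : w' = w := h4
      rwa [← h5]
    · rw [← hg']
      exact ⟨w, hw, rfl⟩)
  have h3 := card_ts2 (F := L)
  rw [Nat.card_eq_fintype_card (α := L), hL] at h3
  rw [card_map_Gs hpp hL hf hqq] at h2
  have h4 := card_tw_ge hpp hL
  have h5 := card_aut_le ha hK (by omega)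
  have hb2 : 2 ≤ b := by
    by_contra hcon
    have h6 : a ≤ 2 := by omega
    have h8 : 2 ^ a ≤ 2 ^ 2 := Nat.pow_le_pow_right (by norm_num) h6
    omega
  have h6 : (2 ^ a) ^ 3 ≤ (2 ^ b) ^ 6 := by
    rw [← pow_mul, ← pow_mul]
    exact Nat.pow_le_pow_right (by norm_num) (by omega)
  have hbq : b ≤ 2 ^ b := Nat.lt_two_pow_self.le
  have hq4 : 4 ≤ 2 ^ b := by
    calc 4 = 2 ^ 2 := rfl
      _ ≤ 2 ^ b := Nat.pow_le_pow_right (by norm_num) hb2
  set q := 2 ^ b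
  set N := Nat.card ↥(Cfsg.Lie.twistedE6 L q)
  set X := Nat.card (MulAut (ProjectiveSpecialLinearGroup (Fin 2) K))
  have h2' : N ≤ X * Nat.card {W : Submodule L (I27 → L) // finrank L W = 2 ∧ ∀ w ∈ W, sh w = 0} := h2
  set T := Nat.card {W : Submodule L (I27 → L) // finrank L W = 2 ∧ ∀ w ∈ W, sh w = 0}
  have h10 : X ≤ 2 * q * q ^ 6 := by
    calc X ≤ a * (2 ^ a) ^ 3 := h5
      _ ≤ (2 * q) * q ^ 6 := Nat.mul_le_mul (by omega) h6
  have h7 : 5 * q ^ 80 ≤ 1296 * q ^ 75 := by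
    calc 5 * q ^ 80 = (5 * q ^ 78) * q ^ 2 := by ring
      _ ≤ (24 * N) * q ^ 2 := Nat.mul_le_mul_right _ h4
      _ ≤ (24 * (X * T)) * q ^ 2 := Nat.mul_le_mul_right _ (Nat.mul_le_mul_left _ h2')
      _ = 24 * X * (T * q ^ 2) := by ring
      _ ≤ 24 * (2 * q * q ^ 6) * (27 * (q ^ 2) ^ 34) := Nat.mul_le_mul (Nat.mul_le_mul_left _ h10) h3
      _ = 1296 * q ^ 75 := by ring
  have h8 : 5 * q ^ 80 = (5 * q ^ 5) * q ^ 75 := by ring
  rw [h8] at h7
  have h11 : 0 < q ^ 75 := by positivity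
  have h12 := Nat.le_of_mul_le_mul_right h7 h11
  have h13 : 4 ^ 5 ≤ q ^ 5 := Nat.pow_le_pow_left hq4 5
  norm_num at h13
  omega

end Cfsg.Agent.R2.H6P2
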