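import Cfsg.Agent.R2.H6P2.Mst
import Cfsg.Agent.R2.H6P2.TwC

/-!
# S5749, S5750, box P2 (helper6)

`p2_false` : there is no configuration in characteristic 2, if `A` has no non-zero fixed vectors on `V` and `V'`.
-/

set_option autoImplicit false
set_option linter.unusedSectionVars false

namespace Cfsg.Agent.R2.H6P2

open Module Matrix
open Cfsg Cfsg.Lie
open Cfsg.Agent.ChevalleyStructure.E6Min.Basic (Zgrp)
open Cfsg.Agent.H943.SL2Rel Cfsg.Agent.H943.SL2Mod Cfsg.Agent.H943.RepAdd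
open Cfsg.Agent.R2.H28.SL2 Cfsg.Agent.R2.SL2 Cfsg.Agent.R2.GEO
open Cfsg.Agent.H163.E6 (V V' TS)
open Cfsg.Agent.H65.E6Emb
open Cfsg.Agent.R2.H9.E6

universe u v w x

/-- an embedding of a finite field of characteristic 2 -/
theorem exists_iota (K : Type v) [Field K] [Finite K] [CharP K 2] (k : Type u) [Field k] [CharP k 2] [IsAlgClosed k] :
    Nonempty (K →+* k) := by
  have hfact : Fact (Nat.Prime 2) := ⟨Nat.prime_two⟩
  let _ := ZMod.algebra K 2
  let _ := ZMod.algebra k 2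
  have h1 : Module.Finite (ZMod 2) K := Module.Finite.of_finite
  have h2 : Algebra.IsAlgebraic (ZMod 2) K := Algebra.IsAlgebraic.of_finite (ZMod 2) K
  exact ⟨(IsAlgClosed.lift (R := ZMod 2) (S := K) (M := k)).toRingHom⟩

/-- **characteristic 2** -/
theorem p2_false {F : Type u} [Field F] [Fintype F] {K : Type v} [Field K] [Fintype K] {a b : ℕ}
    {Γ M : Subgroup ↥(Zgrp F)} {ψ : ProjectiveSpecialLinearGroup (Fin 2) K →* ↥(Zgrp F)} (h : Cfg 2 a b Γ M ψ)
    (hfix : ∀ ρ : Representation F ↥(Zgrp F) (I27 → F), (ρ = V F ∨ ρ = V' F) →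
      ∀ v, (∀ x, ρ (ψ x) v = v) → v = 0) : False := by
  classical
  have hfact : Fact (Nat.Prime 2) := ⟨Nat.prime_two⟩
  have hcF := h.charF
  have hcK := h.charK
  have hck : CharP (AlgebraicClosure F) 2 :=
    charP_of_injective_algebraMap (algebraMap F (AlgebraicClosure F)).injective 2
  obtain ⟨ι⟩ := exists_iota K (AlgebraicClosure F)
  have hper : commutator (SpecialLinearGroup (Fin 2) K) = ⊤ :=
    Cfsg.Agent.TwoFusion.SLTwoFacts.commutator_eq_top (F := K) (by have := h.seven; omega)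
  have ha0 : 0 < a := h.ha
  have hmain : ∀ e : ℕ, Fintype.card F = 2 ^ e → a ∣ e ∧
      ∃ ρ₀ : Representation F ↥(Zgrp F) (I27 → F), (ρ₀ = V F ∨ ρ₀ = V' F) ∧ ∃ W : Submodule F (I27 → F),
        finrank F W = 2 ∧ (∀ w ∈ W, Cfsg.Agent.H952.F4.sh w = 0) ∧ ∀ m ∈ M, ∀ w ∈ W, ρ₀ m w ∈ W := by
    intro e hF
    have hnf := noFx (algebraMap F (AlgebraicClosure F)) h.set hfix
    obtain ⟨hae, ρ, ρ', hρ, n, x, y, hxy, hx, hy⟩ :=
      r_one ι h.cardK (algebraMap F (AlgebraicClosure F)) hF h.set hper hnf ha0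
    exact ⟨hae, m_stable ι h.cardK (algebraMap F (AlgebraicClosure F)) hF h.set hnf ha0 hρ hxy hx hy⟩
  rcases h.fam with ⟨-, hF, hno⟩ | ⟨hF, f, hf, hqq, rfl⟩
  · obtain ⟨-, ρ₀, hρ₀, W, hd, -, hst⟩ := hmain b hF
    exact hno ρ₀ hρ₀ W hst hd
  · obtain ⟨hae, ρ₀, hρ₀, W, hd, hts, hst⟩ := hmain (b * 2) (by rw [hF, ← pow_mul])
    have hb := h.hb
    have hle := Nat.le_of_dvd (by omega) hae
    exact tw_false hf hqq hF h.set h.ha h.hb h.cardK h.seven (by omega) hρ₀ hd hts hst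

end Cfsg.Agent.R2.H6P2
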