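import Cfsg.Agent.R2.H6P2.Inn
import Cfsg.Agent.R2.H9.E6.Count

/-!
# S5749, S5750, box P2: the maximal subgroup stabilizes a totally singular subspace of dimension 2 (helper6)

`m_inner` : every element of `M` acts on `A` as an inner automorphism;
`m_stable` : `M` stabilizes a totally singular subspace of dimension 2 over `F`.
-/

set_option autoImplicit false
set_option linter.unusedSectionVars false

namespace Cfsg.Agent.R2.H6P2

open Module Matrix
open Cfsg.Lie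
open Cfsg.Agent.ChevalleyStructure.E6Min.Basic (Zgrp)
open Cfsg.Agent.ChevalleyStructure.E6Min.Adjoint (ad)
open Cfsg.Agent.H943.SL2Rel Cfsg.Agent.H943.SL2Mod Cfsg.Agent.H943.RepAdd
open Cfsg.Agent.R2.H28.SL2 Cfsg.Agent.R2.SL2 Cfsg.Agent.R2.GEO
open Cfsg.Agent.H952.F4 (sh cr tf)
open Cfsg.Agent.H952.F4.Jord
open Cfsg.Agent.H163.E6 (V V' TS)
open Cfsg.Agent.H65.E6Emb
open Cfsg.Agent.R2.H9.E6 (Setup pq pq_surjective finrank_map_rho)

universe u v w x

section alg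

variable {k : Type u} [Field k] [CharP k 2] {K : Type w} [Field K] [DecidableEq k] [Fintype K] [DecidableEq K]
  [CharP K 2] [IsAlgClosed k]
  (ι : K →+* k) {a : ℕ} (hK : Fintype.card K = 2 ^ a)
  {ρ ρ' : Representation k ↥(Zgrp k) (I27 → k)} {χ : SpecialLinearGroup (Fin 2) K →* ↥(Zgrp k)}

include hK

/-- **submodules of dimension 2** -/
theorem two_of_dim (hnf : NoFx χ) (hρ : ρ = V k ∨ ρ = V' k) {U : Submodule k (I27 → k)} (hU : Stb (rp ρ χ) U)
    (hd : finrank k U = 2) : ∃ n < a, ∃ x y, Two (rp ρ χ) (ka ι n) x y ∧ Submodule.span k {x, y} = U := by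
  have hU0 : U ≠ ⊥ := by
    rintro rfl
    rw [finrank_bot] at hd
    omega
  have hI : Irrd (subRep (rp ρ χ) U hU) := by
    refine irr_of_min (rp ρ χ) hU hU0 fun U' hle hU' => ?_
    have h1 := Submodule.finrank_mono hle
    rw [hd] at h1
    have h2 := no_one ι hnf hρ hU'
    by_cases h3 : finrank k U' = 0
    · exact Or.inl (Submodule.finrank_eq_zero.1 h3)
    · exact Or.inr (Submodule.eq_of_le_of_finrank_eq hle (by omega))
  obtain ⟨b, hb⟩ := (Sy ι 2).ex _ hI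
  obtain ⟨n, hna, -, x, y, hxy, hsp⟩ := two_of_isV ι hK hb hd
  refine ⟨n, hna, x, y, ⟨fun g => ?_, fun g => ?_, fun h => hxy.ne (Subtype.ext h)⟩, ?_⟩
  · exact congrArg Subtype.val (hxy.act₀ g)
  · exact congrArg Subtype.val (hxy.act₁ g)
  · have h1 := congrArg (Submodule.map U.subtype) hsp
    rw [Submodule.map_span, Submodule.map_top, Submodule.range_subtype, Set.image_pair] at h1
    exact h1

end alg

section frob

variable {k : Type u} [Field k] [CharP k 2] {K : Type w} [Field K] [DecidableEq k] [Fintype K] [DecidableEq K]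
  [CharP K 2] [IsAlgClosed k]
  (ι : K →+* k) {a : ℕ} (hK : Fintype.card K = 2 ^ a)
  {F : Type v} [Field F] [Fintype F] (f : F →+* k) {e : ℕ} (hF : Fintype.card F = 2 ^ e)
  {ψ : ProjectiveSpecialLinearGroup (Fin 2) K →* ↥(Zgrp F)} {Γ M : Subgroup ↥(Zgrp F)} (hS : Setup Γ M ψ)
  (hnf : NoFx (chi f ψ))
  {ρ ρ' : Representation k ↥(Zgrp k) (I27 → k)}

include hK hF hS hnf

/-- **the elements of `M` act as inner automorphisms** -/
theorem m_inner (ha : 0 < a) (hρ : Pair ρ ρ') {n : ℕ} {x y : I27 → k} (h : TTwo ρ (chi f ψ) (ka ι n) x y)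
    (hx : Ph e x = x) (hy : Ph e y = y) {m : ↥(Zgrp F)} (hm : m ∈ M) :
    ∃ t : ProjectiveSpecialLinearGroup (Fin 2) K, ∀ z, ψ z * (ψ t * m) = (ψ t * m) * ψ z := by
  wlog hna : n < a generalizing n
  · exact this (n := n % a) (by rw [ka_mod ι hK]; exact h) (Nat.mod_lt _ ha)
  have hρ0 := pair_left hρ
  have hρm : ∀ (g g' : ↥(Zgrp F)) (v : I27 → k), ρ (emb f (g * g')) v = ρ (emb f g) (ρ (emb f g') v) := by
    intro g g' v
    rw [map_mul, map_mul]
    rfl
  have hρ1 : ∀ v : I27 → k, ρ (emb f (1 : ↥(Zgrp F))) v = v := by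
    intro v
    rw [map_one, map_one]
    rfl
  -- the image of the module
  set U : Submodule k (I27 → k) := (Submodule.span k {x, y}).map (ρ (emb f m)) with hUdef
  have hUs : Stb (rp ρ (chi f ψ)) U := by
    rintro g _ ⟨v, hv, rfl⟩
    obtain ⟨z, hz⟩ := hS.norm' hm (pq g)
    obtain ⟨g', rfl⟩ := pq_surjective z
    refine ⟨ρ (emb f (ψ (pq g'))) v, h.stb g' v hv, ?_⟩
    rw [rp_apply, chi_apply, ← hρm, ← hρm, hz]
    congr 2
    group
  have hUd : finrank k U = 2 := by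
    rw [hUdef, finrank_map_rho]
    exact (h.toTwo.isV ι hK hna).1
  obtain ⟨n', hn', x2, y2, h2, hsp⟩ := two_of_dim ι hK hnf hρ0 hUs hUd
  have hx2 : x2 ∈ U := by rw [← hsp]; exact Submodule.subset_span (Or.inl rfl)
  have hy2 : y2 ∈ U := by rw [← hsp]; exact Submodule.subset_span (Or.inr rfl)
  have hUts : ∀ v ∈ U, sh v = 0 := by
    rintro _ ⟨v, hv, rfl⟩
    rw [pair_sh hρ, h.ts v hv, map_zero]
  have hUph : ∀ v ∈ U, Ph e v ∈ U := by
    rintro _ ⟨v, hv, rfl⟩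
    refine ⟨Ph e v, ?_, ?_⟩
    · refine span_Ph ?_ v hv
      intro z hz
      rcases hz with hz | hz
      · rw [hz, hx]
        exact Submodule.subset_span (Or.inl rfl)
      · rw [Set.mem_singleton_iff.1 hz, hy]
        exact Submodule.subset_span (Or.inr rfl)
    · have h1 := Ph_emb f hF hρ0 1 m v
      rw [Nat.mul_one] at h1
      exact h1.symm
  have h2' : TTwo ρ (chi f ψ) (ka ι n') x2 y2 := ⟨h2, hUts _ hx2, hUts _ hy2, h2.cr_zero hρ hnf⟩
  have hnn : n = n' := by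
    by_contra hne
    refine two_types ι hK f hF hS hnf hρ hna hn' hne h h2' (Or.inl ⟨?_, ?_, ?_, ?_⟩)
    · rw [hx]
      exact Submodule.subset_span (Or.inl rfl)
    · rw [hy]
      exact Submodule.subset_span (Or.inr rfl)
    · rw [hsp]
      exact hUph _ hx2
    · rw [hsp]
      exact hUph _ hy2
  subst hnn
  -- the matrix
  obtain ⟨v1, hv1, hx2'⟩ := hx2
  obtain ⟨v2, hv2, hy2'⟩ := hy2
  obtain ⟨p, r, rfl⟩ := Submodule.mem_span_pair.1 hv1
  obtain ⟨q, s, rfl⟩ := Submodule.mem_span_pair.1 hv2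
  have hσ0 : ∀ g : SpecialLinearGroup (Fin 2) K, ∃ g' : SpecialLinearGroup (Fin 2) K,
      ψ (pq g') = m * ψ (pq g) * m⁻¹ := by
    intro g
    obtain ⟨z, hz⟩ := hS.norm hm (pq g)
    obtain ⟨g', rfl⟩ := pq_surjective z
    exact ⟨g', hz⟩
  choose σ hσ using hσ0
  have hσ1 : ∀ (g : SpecialLinearGroup (Fin 2) K) (v : I27 → k),
      ρ (chi f ψ (σ g)) (ρ (emb f m) v) = ρ (emb f m) (ρ (chi f ψ g) v) := by
    intro g v
    rw [chi_apply, chi_apply, ← hρm, ← hρm, hσ]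
    congr 2
    group
  have hinj : ∀ v v' : I27 → k, ρ (emb f m) v = ρ (emb f m) v' → v = v' := by
    intro v v' hv
    have h1 := congrArg (ρ (emb f m⁻¹)) hv
    rw [← hρm, ← hρm, inv_mul_cancel, hρ1, hρ1] at h1
    exact h1
  have e0 : ∀ g, ρ (chi f ψ g) x = _ := h.act₀
  have e1 : ∀ g, ρ (chi f ψ g) y = _ := h.act₁
  have E0 : ∀ g : SpecialLinearGroup (Fin 2) K,
      p • (ka ι n (g.1 0 0) • x + ka ι n (g.1 1 0) • y) + r • (ka ι n (g.1 0 1) • x + ka ι n (g.1 1 1) • y) =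
      ka ι n ((σ g).1 0 0) • (p • x + r • y) + ka ι n ((σ g).1 1 0) • (q • x + s • y) := by
    intro g
    apply hinj
    have h1 := h2.act₀ (σ g)
    rw [← hx2', ← hy2', rp_apply, hσ1, map_add, map_smul, map_smul, e0, e1] at h1
    rw [h1, ← map_smul (ρ (emb f m)), ← map_smul (ρ (emb f m)), ← map_add (ρ (emb f m))]
  have E1 : ∀ g : SpecialLinearGroup (Fin 2) K,
      q • (ka ι n (g.1 0 0) • x + ka ι n (g.1 1 0) • y) + s • (ka ι n (g.1 0 1) • x + ka ι n (g.1 1 1) • y) =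
      ka ι n ((σ g).1 0 1) • (p • x + r • y) + ka ι n ((σ g).1 1 1) • (q • x + s • y) := by
    intro g
    apply hinj
    have h1 := h2.act₁ (σ g)
    rw [← hx2', ← hy2', rp_apply, hσ1, map_add, map_smul, map_smul, e0, e1] at h1
    rw [h1, ← map_smul (ρ (emb f m)), ← map_smul (ρ (emb f m)), ← map_add (ρ (emb f m))]
  have hD : p * s - q * r ≠ 0 := by
    intro hD
    have hxy2 : ∀ α β : k, α • (p • x + r • y) + β • (q • x + s • y) = 0 → α = 0 ∧ β = 0 := by
      intro α β h0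
      refine h2.indep ?_
      rw [← hx2', ← hy2', ← map_smul, ← map_smul, ← map_add, h0, map_zero]
    have h1 := hxy2 s (-r) (by
      have e : s • (p • x + r • y) + (-r) • (q • x + s • y) = (p * s - q * r) • x := by module
      rw [e, hD, zero_smul])
    have h3 := hxy2 (-q) p (by
      have e : (-q) • (p • x + r • y) + p • (q • x + s • y) = (p * s - q * r) • y := by module
      rw [e, hD, zero_smul])
    have hr : r = 0 := neg_eq_zero.1 h1.2
    apply h2.ne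
    rw [← hx2', h3.2, hr, zero_smul, zero_smul, add_zero, map_zero]
  have key : ∀ g : SpecialLinearGroup (Fin 2) K,
      (ka ι n (g.1 0 0) * p + ka ι n (g.1 0 1) * r = p * ka ι n ((σ g).1 0 0) + q * ka ι n ((σ g).1 1 0)) ∧
      (ka ι n (g.1 1 0) * p + ka ι n (g.1 1 1) * r = r * ka ι n ((σ g).1 0 0) + s * ka ι n ((σ g).1 1 0)) := by
    intro g
    have h1 := h.toTwo.indep (α := ka ι n (g.1 0 0) * p + ka ι n (g.1 0 1) * r -
        (p * ka ι n ((σ g).1 0 0) + q * ka ι n ((σ g).1 1 0)))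
      (β := ka ι n (g.1 1 0) * p + ka ι n (g.1 1 1) * r -
        (r * ka ι n ((σ g).1 0 0) + s * ka ι n ((σ g).1 1 0))) (by
        have h3 := sub_eq_zero.2 (E0 g)
        rw [← h3]
        module)
    exact ⟨sub_eq_zero.1 h1.1, sub_eq_zero.1 h1.2⟩
  have key' : ∀ g : SpecialLinearGroup (Fin 2) K,
      (ka ι n (g.1 0 0) * q + ka ι n (g.1 0 1) * s = p * ka ι n ((σ g).1 0 1) + q * ka ι n ((σ g).1 1 1)) ∧
      (ka ι n (g.1 1 0) * q + ka ι n (g.1 1 1) * s = r * ka ι n ((σ g).1 0 1) + s * ka ι n ((σ g).1 1 1)) := by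
    intro g
    have h1 := h.toTwo.indep (α := ka ι n (g.1 0 0) * q + ka ι n (g.1 0 1) * s -
        (p * ka ι n ((σ g).1 0 1) + q * ka ι n ((σ g).1 1 1)))
      (β := ka ι n (g.1 1 0) * q + ka ι n (g.1 1 1) * s -
        (r * ka ι n ((σ g).1 0 1) + s * ka ι n ((σ g).1 1 1))) (by
        have h3 := sub_eq_zero.2 (E1 g)
        rw [← h3]
        module)
    exact ⟨sub_eq_zero.1 h1.1, sub_eq_zero.1 h1.2⟩
  obtain ⟨t, ht⟩ := sk_noether (ka ι n) hD σ (fun g => (key g).1) (fun g => (key' g).1) (fun g => (key g).2)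
    fun g => (key' g).2
  refine ⟨pq t, fun z => ?_⟩
  obtain ⟨g, rfl⟩ := pq_surjective z
  have h3 : ψ (pq g) * ψ (pq t) = ψ (pq t) * (m * ψ (pq g) * m⁻¹) := by
    rw [← hσ, ← map_mul, ← map_mul, ← map_mul, ← map_mul, ht]
  calc ψ (pq g) * (ψ (pq t) * m) = (ψ (pq g) * ψ (pq t)) * m := by group
    _ = ψ (pq t) * (m * ψ (pq g) * m⁻¹) * m := by rw [h3]
    _ = _ := by group

/-- **`M` stabilizes a totally singular subspace of dimension 2** -/
theorem m_stable (ha : 0 < a) (hρ : Pair ρ ρ') {n : ℕ} {x y : I27 → k} (h : TTwo ρ (chi f ψ) (ka ι n) x y)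
    (hx : Ph e x = x) (hy : Ph e y = y) :
    ∃ ρ₀ : Representation F ↥(Zgrp F) (I27 → F), (ρ₀ = V F ∨ ρ₀ = V' F) ∧ ∃ W : Submodule F (I27 → F),
      finrank F W = 2 ∧ (∀ w ∈ W, sh w = 0) ∧ ∀ m ∈ M, ∀ w ∈ W, ρ₀ m w ∈ W := by
  have hd : finrank k (Submodule.span k {x, y}) = 2 := by
    have h1 : Two (rp ρ (chi f ψ)) (ka ι (n % a)) x y := by rw [ka_mod ι hK]; exact h.toTwo
    exact (h1.isV ι hK (Nat.mod_lt _ ha)).1
  have hph : ∀ v ∈ Submodule.span k {x, y}, Ph e v ∈ Submodule.span k {x, y} := by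
    refine span_Ph ?_
    intro z hz
    rcases hz with hz | hz
    · rw [hz, hx]
      exact Submodule.subset_span (Or.inl rfl)
    · rw [Set.mem_singleton_iff.1 hz, hy]
      exact Submodule.subset_span (Or.inr rfl)
  obtain ⟨W, hW⟩ := exists_ext (fr e) f (U := Submodule.span k {x, y})
    (fun x hx => mem_range_of_pow f (by rw [hF, ← fr_apply, hx])) hph
  obtain ⟨ρ₀, hρ₀, hcomp⟩ : ∃ ρ₀ : Representation F ↥(Zgrp F) (I27 → F), (ρ₀ = V F ∨ ρ₀ = V' F) ∧
      ∀ g x, ρ (emb f g) (fun i => f (x i)) = fun i => f (ρ₀ g x i) := by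
    rcases pair_left hρ with rfl | rfl
    · exact ⟨V F, Or.inl rfl, V_emb f⟩
    · exact ⟨V' F, Or.inr rfl, V'_emb f⟩
  have hWs : ∀ a, ∀ w ∈ W, ρ₀ (ψ a) w ∈ W := by
    intro a w hw
    obtain ⟨g, rfl⟩ := pq_surjective a
    rw [← mem_ext_iff (f := f), hW, ← hcomp]
    exact h.stb g _ (by rw [← hW]; exact mem_ext_of_mem hw)
  have hWts : ∀ w ∈ W, sh w = 0 := by
    intro w hw
    have h1 : sh (fun i => f (w i)) = 0 := h.ts _ (by rw [← hW]; exact mem_ext_of_mem hw)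
    rw [sh_map] at h1
    funext i
    have h2 := congrFun h1 i
    exact (map_eq_zero f).1 h2
  refine ⟨ρ₀, hρ₀, W, ?_, hWts, fun m hm w hw => ?_⟩
  · have h1 : finrank F W = finrank k (Submodule.span k {x, y}) := by rw [← hW, finrank_ext]
    rw [h1, hd]
  · obtain ⟨t, ht⟩ := m_inner ι hK f hF hS hnf ha hρ h hx hy hm
    have hc : ψ t * m ∈ M := mul_mem (hS.mem_M t) hm
    obtain ⟨c, -, -, hc'⟩ := Cfsg.Agent.H163.E6.Cnt.ker_scalar hρ₀ (hS.centM hc ht)
    have h1 : m = ψ t⁻¹ * (ψ t * m) := by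
      rw [← mul_assoc, ← map_mul, inv_mul_cancel, map_one, one_mul]
    rw [h1, map_mul, Module.End.mul_apply, hc']
    exact hWs _ _ (W.smul_mem _ hw)

end frob

end Cfsg.Agent.R2.H6P2
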