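import Cfsg.Agent.R2.H6P2.Orbit

/-!
# S5749, S5750, box P2: there is a totally singular twisted natural module fixed by the Frobenius map (helper6)
-/

set_option autoImplicit false
set_option linter.unusedSectionVars false

namespace Cfsg.Agent.R2.H6P2

open Module Matrix
open Cfsg.Lie
open Cfsg.Agent.ChevalleyStructure.E6Min.Basic (Zgrp)
open Cfsg.Agent.H943.SL2Rel Cfsg.Agent.H943.SL2Mod Cfsg.Agent.H943.RepAdd
open Cfsg.Agent.R2.H28.SL2 Cfsg.Agent.R2.SL2 Cfsg.Agent.R2.GEO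
open Cfsg.Agent.H952.F4 (sh cr tf)
open Cfsg.Agent.H952.F4.Jord
open Cfsg.Agent.H163.E6 (V V' TS)
open Cfsg.Agent.H65.E6Emb
open Cfsg.Agent.R2.H9.E6 (Setup pq pq_surjective)

universe u v w x

theorem ne_mod {r i j : ℕ} (h1 : i < j) (h2 : j < i + r) : ¬ i ≡ j [MOD r] := by
  intro h
  rw [Nat.modEq_iff_dvd' h1.le] at h
  have h3 := Nat.le_of_dvd (by omega) h
  omega

theorem two_d {r i j d : ℕ} (hd : 0 < d) (hdr : d < r) (h1 : i ≡ j + d [MOD r]) (h2 : i + d ≡ j [MOD r]) :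
    2 * d = r := by
  have h3 : i + 0 ≡ i + 2 * d [MOD r] := by
    have h4 : i + d + d ≡ j + d [MOD r] := Nat.ModEq.add_right d h2
    have h5 : i ≡ i + d + d [MOD r] := h1.trans h4.symm
    have h6 : i + d + d = i + 2 * d := by ring
    rw [h6] at h5
    exact h5
  have h4 : 0 ≡ 2 * d [MOD r] := Nat.ModEq.add_left_cancel' i h3
  obtain ⟨c, hc⟩ := (Nat.modEq_zero_iff_dvd).1 h4.symm
  have hc1 : 0 < c := by
    rcases Nat.eq_zero_or_pos c with h | h
    · rw [h, Nat.mul_zero] at hc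
      omega
    · exact h
  have hc2 : c < 2 := by
    by_contra hcon
    have : r * 2 ≤ r * c := Nat.mul_le_mul_left r (by omega)
    omega
  have hc3 : c = 1 := by omega
  rw [hc3, Nat.mul_one] at hc
  exact hc

/-- the four products are zero -/
def Zr {k : Type u} [Field k] (X Y : ℕ → I27 → k) (i j : ℕ) : Prop :=
  cr (X i) (X j) = 0 ∧ cr (X i) (Y j) = 0 ∧ cr (Y i) (X j) = 0 ∧ cr (Y i) (Y j) = 0

section frob

variable {k : Type u} [Field k] [CharP k 2] {K : Type w} [Field K] [DecidableEq k] [Fintype K] [DecidableEq K]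
  [CharP K 2] [IsAlgClosed k]
  (ι : K →+* k) {a : ℕ} (hK : Fintype.card K = 2 ^ a)
  {F : Type v} [Field F] [Fintype F] (f : F →+* k) {e : ℕ} (hF : Fintype.card F = 2 ^ e)
  {ψ : ProjectiveSpecialLinearGroup (Fin 2) K →* ↥(Zgrp F)} {Γ M : Subgroup ↥(Zgrp F)} (hS : Setup Γ M ψ)
  (hper : commutator (SpecialLinearGroup (Fin 2) K) = ⊤) (hnf : NoFx (chi f ψ))
  {ρ ρ' : Representation k ↥(Zgrp k) (I27 → k)}

include hK hF hS hnf hper

/-- **the orbit has length 1** -/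
theorem len_one (ha : 0 < a) (hρ : Pair ρ ρ') {n : ℕ} {x y : I27 → k} (h : TTwo ρ (chi f ψ) (ka ι n) x y)
    (hrx : Ph (e * (a / Nat.gcd a e)) x = x) (hry : Ph (e * (a / Nat.gcd a e)) y = y) : a / Nat.gcd a e = 1 := by
  have h27 : finrank k (I27 → k) = 27 := by rw [finrank_fintype_fun_eq_card]; rfl
  set r := a / Nat.gcd a e with hr
  have hr0 : 0 < r := Nat.div_pos (Nat.le_of_dvd ha (Nat.gcd_dvd_left a e)) (Nat.gcd_pos_of_pos_left e ha)
  obtain ⟨X, hX⟩ : ∃ X : ℕ → I27 → k, ∀ i, X i = Ph (e * i) x := ⟨_, fun _ => rfl⟩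
  obtain ⟨Y, hY⟩ : ∃ Y : ℕ → I27 → k, ∀ i, Y i = Ph (e * i) y := ⟨_, fun _ => rfl⟩
  obtain ⟨N, hN⟩ : ∃ N : ℕ → ℕ, ∀ i, N i = (n + e * i) % a := ⟨_, fun _ => rfl⟩
  have hNa : ∀ i, N i < a := fun i => by rw [hN]; exact Nat.mod_lt _ ha
  have hNr : ∀ i j, N i = N j ↔ i ≡ j [MOD r] := fun i j => by rw [hN, hN, N_iff ha n i j]
  have hT : ∀ i, TTwo ρ (chi f ψ) (ka ι (N i)) (X i) (Y i) := fun i => by
    rw [hN, hX, hY, ka_mod ι hK]
    exact h.ph f hF (pair_left hρ) i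
  have hXs : ∀ i j, Ph (e * i) (X j) = X (i + j) := fun i j => by rw [hX, hX, Ph_comp, ← Nat.mul_add]
  have hYs : ∀ i j, Ph (e * i) (Y j) = Y (i + j) := fun i j => by rw [hY, hY, Ph_comp, ← Nat.mul_add]
  have hX1 : ∀ j, Ph e (X j) = X (j + 1) := fun j => by
    have := hXs 1 j
    rwa [Nat.mul_one, Nat.add_comm] at this
  have hY1 : ∀ j, Ph e (Y j) = Y (j + 1) := fun j => by
    have := hYs 1 j
    rwa [Nat.mul_one, Nat.add_comm] at this
  have hXr : X r = X 0 := by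
    rw [hX, hX, hrx, Nat.mul_zero]
    funext i
    show x i = fr 0 (x i)
    rw [fr_apply, pow_zero, pow_one]
  have hYr : Y r = Y 0 := by
    rw [hY, hY, hry, Nat.mul_zero]
    funext i
    show y i = fr 0 (y i)
    rw [fr_apply, pow_zero, pow_one]
  have hZs : ∀ s i j, Zr X Y i j → Zr X Y (s + i) (s + j) := by
    rintro s i j ⟨h1, h2, h3, h4⟩
    refine ⟨?_, ?_, ?_, ?_⟩
    · rw [← hXs, ← hXs, Ph_cr, h1, Ph_zero]
    · rw [← hXs, ← hYs, Ph_cr, h2, Ph_zero]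
    · rw [← hXs, ← hYs, Ph_cr, h3, Ph_zero]
    · rw [← hYs, ← hYs, Ph_cr, h4, Ph_zero]
  have hZc : ∀ i j, Zr X Y i j → Zr X Y j i := by
    rintro i j ⟨h1, h2, h3, h4⟩
    exact ⟨(cr_comm _ _).trans h1, (cr_comm _ _).trans h3, (cr_comm _ _).trans h2, (cr_comm _ _).trans h4⟩
  -- shift of non-zero products
  have hZn : ∀ s d, ¬ Zr X Y 0 d → ¬ Zr X Y s (s + d) := by
    intro s d h0 h1
    apply h0
    obtain ⟨h1, h2, h3, h4⟩ := h1
    have e0 : Ph (e * s) (X 0) = X s := hXs s 0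
    have e1 : Ph (e * s) (Y 0) = Y s := hYs s 0
    refine ⟨?_, ?_, ?_, ?_⟩
    · rwa [← e0, ← hXs, Ph_cr, Ph_eq_zero] at h1
    · rwa [← e0, ← hYs, Ph_cr, Ph_eq_zero] at h2
    · rwa [← e1, ← hXs, Ph_cr, Ph_eq_zero] at h3
    · rwa [← e1, ← hYs, Ph_cr, Ph_eq_zero] at h4
  by_contra hr1
  -- `r = 2`
  have hr2 : r ≠ 2 := by
    intro h2
    have hne : N 0 ≠ N 1 := fun h0 => ne_mod (by omega) (by omega) ((hNr 0 1).1 h0)
    have e0 : Ph e (X 0) = X 1 := hX1 0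
    have e1 : Ph e (Y 0) = Y 1 := hY1 0
    have e2 : Ph e (X 1) = X 0 := by
      rw [hX1, ← hXr, h2]
    have e3 : Ph e (Y 1) = Y 0 := by
      rw [hY1, ← hYr, h2]
    refine two_types ι hK f hF hS hnf hρ (hNa 0) (hNa 1) hne (hT 0) (hT 1) (Or.inr ⟨?_, ?_, ?_, ?_⟩)
    · rw [e0]; exact Submodule.subset_span (Or.inl rfl)
    · rw [e1]; exact Submodule.subset_span (Or.inr rfl)
    · rw [e2]; exact Submodule.subset_span (Or.inl rfl)
    · rw [e3]; exact Submodule.subset_span (Or.inr rfl)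
  have hr3 : 3 ≤ r := by omega
  -- the first case
  by_cases hA : ∃ d, 0 < d ∧ d < r ∧ 2 * d ≠ r ∧ ¬ Zr X Y 0 d
  · obtain ⟨d, hd0, hdr, hd2, hZ⟩ := hA
    have hZ1 := hZn 1 d hZ
    have hZ2 := hZn 2 d hZ
    have hne : ∀ i, N i ≠ N (i + d) := fun i h0 => ne_mod (by omega) (by omega) ((hNr i (i + d)).1 h0)
    have hc : ∀ i, ¬ Zr X Y i (i + d) →
        2 ≤ (cf (Sy.{u, u, w} ι 2) (rp ρ (chi f ψ))).count (2 ^ N i + 2 ^ N (i + d)) := fun i hi =>
      cnt_four ι hK hper hnf hρ (hNa i) (hNa _) (hne i) (hT i) (hT _) hi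
    have c0 := hc 0 (by rw [Nat.zero_add]; exact hZ)
    have c1 := hc 1 hZ1
    have c2 := hc 2 hZ2
    have d0 := cnt_one ι hK (hNa 0) (hT 0).toTwo
    have d1 := cnt_one ι hK (hNa 1) (hT 1).toTwo
    have hb : ∀ i j, i < j → j < i + 3 → 2 ^ N i + 2 ^ N (i + d) ≠ 2 ^ N j + 2 ^ N (j + d) := by
      intro i j hij hj h0
      rcases lab_two (hne i) (hne j) h0 with ⟨h1, h2⟩ | ⟨h1, h2⟩
      · exact ne_mod hij (by omega) ((hNr _ _).1 h1)
      · exact hd2 (two_d hd0 hdr ((hNr _ _).1 h1) ((hNr _ _).1 h2))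
    have hnd : [2 ^ N 0 + 2 ^ N (0 + d), 2 ^ N 1 + 2 ^ N (1 + d), 2 ^ N 2 + 2 ^ N (2 + d), 2 ^ N 0, 2 ^ N 1].Nodup := by
      simp only [List.nodup_cons, List.mem_cons, List.not_mem_nil, or_false, not_or, not_false_eq_true,
        List.nodup_nil, and_true]
      exact ⟨⟨hb 0 1 (by omega) (by omega), hb 0 2 (by omega) (by omega), lab_ne (hne 0), lab_ne (hne 0)⟩,
        ⟨hb 1 2 (by omega) (by omega), lab_ne (hne 1), lab_ne (hne 1)⟩, ⟨lab_ne (hne 2), lab_ne (hne 2)⟩,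
        fun h0 => ne_mod (by omega) (by omega) ((hNr 0 1).1 (lab_inj h0))⟩
    have h3 := sum_le ι hK (rp ρ (chi f ψ)) hnd
    simp only [List.map_cons, List.map_nil, List.sum_cons, List.sum_nil, card_one, card_two (hne _)] at h3
    omega
  have hA' : ∀ d, 0 < d → d < r → 2 * d ≠ r → Zr X Y 0 d := by
    intro d h1 h2 h3
    by_contra h4
    exact hA ⟨d, h1, h2, h3, h4⟩
  -- the second case
  by_cases hB : ∃ d, 0 < d ∧ d < r ∧ 2 * d = r ∧ ¬ Zr X Y 0 d
  · obtain ⟨d, hd0, hdr, hd2, hZ⟩ := hB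
    have hr4 : 4 ≤ r := by omega
    have hZ1 := hZn 1 d hZ
    have hne : ∀ i, N i ≠ N (i + d) := fun i h0 => ne_mod (by omega) (by omega) ((hNr i (i + d)).1 h0)
    have hne' : ∀ i, N i ≠ N (i + 1) := fun i h0 => ne_mod (by omega) (by omega) ((hNr i (i + 1)).1 h0)
    have hc : ∀ i, ¬ Zr X Y i (i + d) →
        2 ≤ (cf (Sy.{u, u, w} ι 2) (rp ρ (chi f ψ))).count (2 ^ N i + 2 ^ N (i + d)) := fun i hi =>
      cnt_four ι hK hper hnf hρ (hNa i) (hNa _) (hne i) (hT i) (hT _) hi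
    have c0 := hc 0 (by rw [Nat.zero_add]; exact hZ)
    have c1 := hc 1 hZ1
    have hs : ∀ i, Zr X Y i (i + 1) := fun i => hZs i 0 1 (hA' 1 (by omega) (by omega) (by omega))
    have hd : ∀ i, 2 ≤ (cf (Sy.{u, u, w} ι 2) (rp ρ (chi f ψ))).count (2 ^ N i) := fun i =>
      (cnt_sum ι hK hper hρ (hNa i) (hNa _) (hne' i) (hT i) (hT _) (hs i)).1
    have d0 := hd 0
    have d1 := hd 1
    have d2 := hd 2
    have hnd : [2 ^ N 0 + 2 ^ N (0 + d), 2 ^ N 1 + 2 ^ N (1 + d), 2 ^ N 0, 2 ^ N 1, 2 ^ N 2].Nodup := by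
      simp only [List.nodup_cons, List.mem_cons, List.not_mem_nil, or_false, not_or, not_false_eq_true,
        List.nodup_nil, and_true]
      refine ⟨⟨?_, lab_ne (hne 0), lab_ne (hne 0), lab_ne (hne 0)⟩,
        ⟨lab_ne (hne 1), lab_ne (hne 1), lab_ne (hne 1)⟩,
        ⟨fun h0 => ne_mod (by omega) (by omega) ((hNr 0 1).1 (lab_inj h0)),
          fun h0 => ne_mod (by omega) (by omega) ((hNr 0 2).1 (lab_inj h0))⟩,
        fun h0 => ne_mod (by omega) (by omega) ((hNr 1 2).1 (lab_inj h0))⟩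
      intro h0
      rcases lab_two (hne 0) (hne 1) h0 with ⟨h1, h2⟩ | ⟨h1, h2⟩
      · exact ne_mod (by omega) (by omega) ((hNr _ _).1 h1)
      · exact ne_mod (by omega) (by omega) ((hNr _ _).1 h1)
    have h3 := sum_le ι hK (rp ρ (chi f ψ)) hnd
    simp only [List.map_cons, List.map_nil, List.sum_cons, List.sum_nil, card_one, card_two (hne _)] at h3
    omega
  -- all products are zero
  have hall : ∀ d, 0 < d → d < r → Zr X Y 0 d := by
    intro d h1 h2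
    by_contra h4
    by_cases h3 : 2 * d = r
    · exact hB ⟨d, h1, h2, h3, h4⟩
    · exact hA ⟨d, h1, h2, h3, h4⟩
  have hZ : ∀ i j, i < r → j < r → i ≠ j → Zr X Y i j := by
    have h1 : ∀ i j, i < j → j < r → Zr X Y i j := by
      intro i j hij hj
      have h2 := hZs i 0 (j - i) (hall (j - i) (by omega) (by omega))
      rwa [Nat.add_zero, Nat.add_sub_cancel' hij.le] at h2
    intro i j hi hj hij
    rcases lt_or_gt_of_ne hij with h2 | h2
    · exact h1 i j h2 hj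
    · exact hZc j i (h1 j i h2 hi)
  obtain ⟨B, hB0, hB1⟩ : ∃ B : Fin r × Fin 2 → I27 → k, (∀ i, B (i, 0) = X i) ∧ ∀ i, B (i, 1) = Y i :=
    ⟨fun p => if p.2 = 0 then X p.1 else Y p.1, fun i => rfl, fun i => rfl⟩
  have hBc : ∀ (p : Fin r × Fin 2), B p = X p.1 ∨ B p = Y p.1 := by
    rintro ⟨i, l⟩
    fin_cases l
    · exact Or.inl (hB0 i)
    · exact Or.inr (hB1 i)
  have hmX : ∀ i < r, X i ∈ Submodule.span k (Set.range B) := fun i hi =>
    Submodule.subset_span ⟨(⟨i, hi⟩, 0), hB0 ⟨i, hi⟩⟩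
  have hmY : ∀ i < r, Y i ∈ Submodule.span k (Set.range B) := fun i hi =>
    Submodule.subset_span ⟨(⟨i, hi⟩, 1), hB1 ⟨i, hi⟩⟩
  have hst : Stb (rp ρ (chi f ψ)) (Submodule.span k (Set.range B)) := by
    refine stb_span fun g z hz => ?_
    obtain ⟨p, rfl⟩ := hz
    rcases hBc p with hp | hp <;> rw [hp]
    · rw [(hT p.1).act₀]
      exact Submodule.add_mem _ (Submodule.smul_mem _ _ (hmX _ p.1.2)) (Submodule.smul_mem _ _ (hmY _ p.1.2))
    · rw [(hT p.1).act₁]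
      exact Submodule.add_mem _ (Submodule.smul_mem _ _ (hmX _ p.1.2)) (Submodule.smul_mem _ _ (hmY _ p.1.2))
  have hts : TS (Submodule.span k (Set.range B)) := by
    refine ts_set ?_ ?_
    · rintro _ ⟨p, rfl⟩
      rcases hBc p with hp | hp <;> rw [hp]
      · exact (hT p.1).shx
      · exact (hT p.1).shy
    · rintro _ ⟨p, rfl⟩ _ ⟨p', rfl⟩
      by_cases hpp : (p.1 : ℕ) = p'.1
      · rcases hBc p with hp | hp <;> rcases hBc p' with hp' | hp' <;> rw [hp, hp', ← hpp]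
        · exact cr_self0 (X p.1)
        · exact (hT p.1).crxy
        · exact (cr_comm (Y p.1) (X p.1)).trans (hT p.1).crxy
        · exact cr_self0 (Y p.1)
      · obtain ⟨h1, h2, h3, h4⟩ := hZ p.1 p'.1 p.1.2 p'.1.2 hpp
        rcases hBc p with hp | hp <;> rcases hBc p' with hp' | hp' <;> rw [hp, hp']
        · exact h1
        · exact h2
        · exact h3
        · exact h4
  have hfr : ∀ v ∈ Submodule.span k (Set.range B), Ph e v ∈ Submodule.span k (Set.range B) := by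
    refine span_Ph ?_
    rintro _ ⟨p, rfl⟩
    have hlt : (p.1 : ℕ) < r := p.1.2
    rcases hBc p with hp | hp <;> rw [hp]
    · rw [hX1]
      by_cases h1 : (p.1 : ℕ) + 1 < r
      · exact hmX _ h1
      · have h2 : (p.1 : ℕ) + 1 = r := by omega
        rw [h2, hXr]
        exact hmX _ hr0
    · rw [hY1]
      by_cases h1 : (p.1 : ℕ) + 1 < r
      · exact hmY _ h1
      · have h2 : (p.1 : ℕ) + 1 = r := by omega
        rw [h2, hYr]
        exact hmY _ hr0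
  have hle : finrank k (Submodule.span k (Set.range B)) ≤ 2 * r := by
    refine (finrank_range_le_card B).trans ?_
    rw [Fintype.card_prod, Fintype.card_fin, Fintype.card_fin, Nat.mul_comm]
  have hge : 2 * r ≤ finrank k (Submodule.span k (Set.range B)) := by
    have hnd : ((List.range r).map fun i => 2 ^ N i).Nodup := by
      refine List.Nodup.map_on ?_ List.nodup_range
      intro i hi j hj hij
      have hi' := List.mem_range.1 hi
      have hj' := List.mem_range.1 hj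
      have h1 := (hNr i j).1 (lab_inj hij)
      have h2 : i % r = j % r := h1
      rwa [Nat.mod_eq_of_lt hi', Nat.mod_eq_of_lt hj'] at h2
    have h3 := sum_le ι hK (subRep (rp ρ (chi f ψ)) _ hst) hnd
    refine le_trans ?_ h3
    rw [List.map_map]
    have h4 := List.card_nsmul_le_sum ((List.range r).map ((fun b =>
      (cf (Sy.{u, u, w} ι 2) (subRep (rp ρ (chi f ψ)) _ hst)).count b * (Bp 2 b).card) ∘ fun i => 2 ^ N i)) 2 (by
        intro c hc
        obtain ⟨i, hi, rfl⟩ := List.mem_map.1 hc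
        have hi' := List.mem_range.1 hi
        have h5 := cnt_le ι hK hst (hNa i) (hT i).toTwo (hmX i hi') (hmY i hi')
        show 2 ≤ (cf (Sy.{u, u, w} ι 2) (subRep (rp ρ (chi f ψ)) _ hst)).count (2 ^ N i) * (Bp 2 (2 ^ N i)).card
        rw [card_one]
        omega)
    rw [List.length_map, List.length_range, smul_eq_mul, Nat.mul_comm] at h4
    exact h4
  have h6 := finrank_le_six hts.1
  exact rat_ts f hF hS (pair_left hρ) hst hfr hts.1 (by omega)

/-- **a totally singular twisted natural module fixed by the Frobenius map** -/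
theorem r_one (ha : 0 < a) : a ∣ e ∧ ∃ ρ ρ' : Representation k ↥(Zgrp k) (I27 → k), Pair ρ ρ' ∧
    ∃ n x y, TTwo ρ (chi f ψ) (ka ι n) x y ∧ Ph e x = x ∧ Ph e y = y := by
  obtain ⟨ρ₀, hρ₀, n, -, x, y, hxy⟩ := exists_two ι hK hper hnf
  obtain ⟨ρ₁, hp⟩ := exists_pair hρ₀
  have hmod : ∀ m, ka ι (m + e * (a / Nat.gcd a e)) = ka ι m := by
    intro m
    rw [← ka_mod ι hK (m + e * (a / Nat.gcd a e)), ← ka_mod ι hK m]
    congr 1
    have h1 := (N_iff ha m (e := e) (a / Nat.gcd a e) 0).2 (by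
      show (a / Nat.gcd a e) % (a / Nat.gcd a e) = 0 % (a / Nat.gcd a e)
      rw [Nat.mod_self, Nat.zero_mod])
    rwa [Nat.mul_zero, Nat.add_zero] at h1
  obtain ⟨x, y, hxy, hx, hy⟩ := exists_ph f hF hρ₀ hxy (hmod n)
  have key : ∃ ρ ρ' : Representation k ↥(Zgrp k) (I27 → k), Pair ρ ρ' ∧
      ∃ n x y, TTwo ρ (chi f ψ) (ka ι n) x y ∧ Ph (e * (a / Nat.gcd a e)) x = x ∧
        Ph (e * (a / Nat.gcd a e)) y = y := by
    rcases hxy.ts_or hp hnf with h1 | h1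
    · exact ⟨ρ₀, ρ₁, hp, n, x, y, h1, hx, hy⟩
    · exact ⟨ρ₁, ρ₀, hp.swap, n + 1, sh x, sh y, h1, by rw [← Ph_sh, hx], by rw [← Ph_sh, hy]⟩
  obtain ⟨ρ, ρ', hρ, n, x, y, h, hrx, hry⟩ := key
  have h1 := len_one ι hK f hF hS hper hnf ha hρ h hrx hry
  rw [h1, Nat.mul_one] at hrx hry
  refine ⟨?_, ρ, ρ', hρ, n, x, y, h, hrx, hry⟩
  have h2 : Nat.gcd a e * 1 = a := by
    rw [← h1]
    exact Nat.mul_div_cancel' (Nat.gcd_dvd_left a e)
  rw [Nat.mul_one] at h2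
  rw [← h2]
  exact Nat.gcd_dvd_right a e

end frob

end Cfsg.Agent.R2.H6P2
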