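import Cfsg.Agent.R2.H6P2.FS

/-!
# S5749, S5750, box P2: twisted natural modules and their tensor products inside a module (helper6)

`Two τ κ x y` : `x, y` span a submodule isomorphic to the natural module twisted by `κ`; `Four τ κ κ' a b c d` : the same for
the tensor product of two such modules (quotients allowed); `Two.isV`, `Four.isV` : the labels of these submodules;
`two_of_isV` : every module `V_b` of dimension 2 is of this form.
-/

set_option autoImplicit false
set_option linter.unusedSectionVars false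

namespace Cfsg.Agent.R2.H6P2

open Module Matrix
open Cfsg.Agent.H943.SL2Rel Cfsg.Agent.H943.SL2Mod Cfsg.Agent.H943.RepAdd
open Cfsg.Agent.R2.H28.SL2 Cfsg.Agent.R2.SL2

universe u v w

variable {k : Type u} [Field k] {K : Type w} [Field K]
variable {V : Type v} [AddCommGroup V] [Module k V]

/-- `x, y` span a twisted natural module -/
structure Two (τ : Representation k (SpecialLinearGroup (Fin 2) K) V) (κ : K →+* k) (x y : V) : Prop where
  act₀ : ∀ g : SpecialLinearGroup (Fin 2) K, τ g x = κ (g.1 0 0) • x + κ (g.1 1 0) • y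
  act₁ : ∀ g : SpecialLinearGroup (Fin 2) K, τ g y = κ (g.1 0 1) • x + κ (g.1 1 1) • y
  ne : x ≠ 0

/-- `a, b, c, d` are the images of `x ⊗ x'`, `x ⊗ y'`, `y ⊗ x'`, `y ⊗ y'` -/
structure Four (τ : Representation k (SpecialLinearGroup (Fin 2) K) V) (κ κ' : K →+* k) (a b c d : V) : Prop where
  act₀ : ∀ g : SpecialLinearGroup (Fin 2) K, τ g a =
    κ (g.1 0 0) • (κ' (g.1 0 0) • a + κ' (g.1 1 0) • b) + κ (g.1 1 0) • (κ' (g.1 0 0) • c + κ' (g.1 1 0) • d)
  act₁ : ∀ g : SpecialLinearGroup (Fin 2) K, τ g b =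
    κ (g.1 0 0) • (κ' (g.1 0 1) • a + κ' (g.1 1 1) • b) + κ (g.1 1 0) • (κ' (g.1 0 1) • c + κ' (g.1 1 1) • d)
  act₂ : ∀ g : SpecialLinearGroup (Fin 2) K, τ g c =
    κ (g.1 0 1) • (κ' (g.1 0 0) • a + κ' (g.1 1 0) • b) + κ (g.1 1 1) • (κ' (g.1 0 0) • c + κ' (g.1 1 0) • d)
  act₃ : ∀ g : SpecialLinearGroup (Fin 2) K, τ g d =
    κ (g.1 0 1) • (κ' (g.1 0 1) • a + κ' (g.1 1 1) • b) + κ (g.1 1 1) • (κ' (g.1 0 1) • c + κ' (g.1 1 1) • d)

theorem stb_span {τ : Representation k (SpecialLinearGroup (Fin 2) K) V} {s : Set V}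
    (h : ∀ g, ∀ x ∈ s, τ g x ∈ Submodule.span k s) : Stb τ (Submodule.span k s) := by
  intro g w hw
  have h1 : Submodule.span k s ≤ (Submodule.span k s).comap (τ g) := Submodule.span_le.2 fun x hx => h g x hx
  exact h1 hw

theorem Two.stb {τ : Representation k (SpecialLinearGroup (Fin 2) K) V} {κ : K →+* k} {x y : V} (h : Two τ κ x y) :
    Stb τ (Submodule.span k {x, y}) := by
  have hx : x ∈ Submodule.span k {x, y} := Submodule.subset_span (Or.inl rfl)
  have hy : y ∈ Submodule.span k {x, y} := Submodule.subset_span (Or.inr rfl)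
  refine stb_span fun g z hz => ?_
  rcases hz with rfl | hz
  · rw [h.act₀]
    exact Submodule.add_mem _ (Submodule.smul_mem _ _ hx) (Submodule.smul_mem _ _ hy)
  · rw [Set.mem_singleton_iff.1 hz, h.act₁]
    exact Submodule.add_mem _ (Submodule.smul_mem _ _ hx) (Submodule.smul_mem _ _ hy)

theorem Four.stb {τ : Representation k (SpecialLinearGroup (Fin 2) K) V} {κ κ' : K →+* k} {a b c d : V}
    (h : Four τ κ κ' a b c d) : Stb τ (Submodule.span k {a, b, c, d}) := by
  have ha : a ∈ Submodule.span k {a, b, c, d} := Submodule.subset_span (by simp)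
  have hb : b ∈ Submodule.span k {a, b, c, d} := Submodule.subset_span (by simp)
  have hc : c ∈ Submodule.span k {a, b, c, d} := Submodule.subset_span (by simp)
  have hd : d ∈ Submodule.span k {a, b, c, d} := Submodule.subset_span (by simp)
  have key : ∀ (s₀ s₁ t₀ t₁ u₀ u₁ : k), u₀ • (s₀ • a + s₁ • b) + u₁ • (t₀ • c + t₁ • d) ∈
      Submodule.span k {a, b, c, d} := fun s₀ s₁ t₀ t₁ u₀ u₁ =>
    Submodule.add_mem _
      (Submodule.smul_mem _ _ (Submodule.add_mem _ (Submodule.smul_mem _ _ ha) (Submodule.smul_mem _ _ hb)))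
      (Submodule.smul_mem _ _ (Submodule.add_mem _ (Submodule.smul_mem _ _ hc) (Submodule.smul_mem _ _ hd)))
  refine stb_span fun g z hz => ?_
  rcases hz with rfl | rfl | rfl | hz
  · rw [h.act₀]; exact key _ _ _ _ _ _
  · rw [h.act₁]; exact key _ _ _ _ _ _
  · rw [h.act₂]; exact key _ _ _ _ _ _
  · rw [Set.mem_singleton_iff.1 hz, h.act₃]; exact key _ _ _ _ _ _

section lift

variable [CharP k 2] [DecidableEq k] [Fintype K] [DecidableEq K] [CharP K 2] (ι : K →+* k)

/-- lifting of linear maps to the tensor product -/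
theorem exists_lift {n : ℕ} {l : List ℕ} (hl : (n :: l).Nodup) (hb : psm (n :: l) ≤ Fintype.card K - 1)
    (θ₀ θ₁ : FS ι l →ₗ[k] V) : ∃ θ : FS ι (n :: l) →ₗ[k] V, ∀ r r', θ (jx ι n l r + jy ι n l r') = θ₀ r + θ₁ r' := by
  have := finite_FS ι l
  have := finite_FS ι (n :: l)
  have hl' : l.Nodup := (List.nodup_cons.1 hl).2
  have hb' : psm l ≤ Fintype.card K - 1 := by
    rw [psm_cons] at hb
    exact (Nat.le_add_left _ _).trans hb
  let m : (FS ι l × FS ι l) →ₗ[k] FS ι (n :: l) := (jx ι n l).coprod (jy ι n l)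
  have hs : Function.Surjective m := by
    intro e
    obtain ⟨r, r', rfl⟩ := (tens_FS ι n l).span e
    exact ⟨(r, r'), LinearMap.coprod_apply _ _ _⟩
  have hi : Function.Injective m := by
    rw [LinearMap.injective_iff_surjective_of_finrank_eq_finrank]
    · exact hs
    · rw [finrank_prod, finrank_FS ι hl' hb', finrank_FS ι hl hb, List.length_cons, pow_succ]
      ring
  let e : (FS ι l × FS ι l) ≃ₗ[k] FS ι (n :: l) := LinearEquiv.ofBijective m ⟨hi, hs⟩
  refine ⟨(θ₀.coprod θ₁) ∘ₗ (e.symm : FS ι (n :: l) →ₗ[k] (FS ι l × FS ι l)), fun r r' => ?_⟩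
  have h1 : jx ι n l r + jy ι n l r' = e (r, r') := (LinearMap.coprod_apply (jx ι n l) (jy ι n l) (r, r')).symm
  rw [h1]
  show (θ₀.coprod θ₁) (e.symm (e (r, r'))) = _
  rw [e.symm_apply_apply, LinearMap.coprod_apply]

/-- lifting of equivariant maps -/
theorem equiv_of {τ : Representation k (SpecialLinearGroup (Fin 2) K) V} {n : ℕ} {l : List ℕ}
    {θ₀ θ₁ : FS ι l →ₗ[k] V} {θ : FS ι (n :: l) →ₗ[k] V} (h : ∀ r r', θ (jx ι n l r + jy ι n l r') = θ₀ r + θ₁ r')
    (h₀ : ∀ (g : SpecialLinearGroup (Fin 2) K) r, τ g (θ₀ r) = ka ι n (g.1 0 0) • θ₀ (fs ι l g r) +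
      ka ι n (g.1 1 0) • θ₁ (fs ι l g r))
    (h₁ : ∀ (g : SpecialLinearGroup (Fin 2) K) r, τ g (θ₁ r) = ka ι n (g.1 0 1) • θ₀ (fs ι l g r) +
      ka ι n (g.1 1 1) • θ₁ (fs ι l g r)) (g : SpecialLinearGroup (Fin 2) K) (e : FS ι (n :: l)) :
    θ (fs ι (n :: l) g e) = τ g (θ e) := by
  have hT := tens_FS ι n l
  obtain ⟨r, r', rfl⟩ := hT.span e
  have e0 : fs ι (n :: l) g (jx ι n l r + jy ι n l r') =
      jx ι n l (ka ι n (g.1 0 0) • fs ι l g r + ka ι n (g.1 0 1) • fs ι l g r') +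
      jy ι n l (ka ι n (g.1 1 0) • fs ι l g r + ka ι n (g.1 1 1) • fs ι l g r') := by
    rw [map_add, hT.act₀, hT.act₁]
    simp only [Matrix.map_apply, map_add, map_smul]
    abel
  rw [e0, h, h, map_add (τ g), h₀, h₁]
  simp only [map_add, map_smul]
  abel

/-- the constant function -/
noncomputable def on1 : FS ι [] := ⟨fun _ => 1, Submodule.mem_span_singleton_self _⟩

/-- the coordinate of a constant function -/
noncomputable def co1 : FS ι [] →ₗ[k] k := (LinearMap.proj ((0, 0) : K × K)) ∘ₗ (FS ι []).subtype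

theorem co1_on1 : co1 ι (on1 ι) = 1 := rfl

theorem co1_fs (g : SpecialLinearGroup (Fin 2) K) (r : FS ι []) : co1 ι (fs ι [] g r) = co1 ι r := by
  show (r : K × K → k) (0 * g.1 0 0 + 0 * g.1 1 0, 0 * g.1 0 1 + 0 * g.1 1 1) = (r : K × K → k) (0, 0)
  simp

theorem eq_co1 (r : FS ι []) : r = co1 ι r • on1 ι := by
  obtain ⟨c, hc⟩ := Submodule.mem_span_singleton.1 r.2
  have h1 : r = c • on1 ι := Subtype.ext hc.symm
  rw [h1, map_smul, co1_on1, smul_eq_mul, mul_one]

/-- the image of an irreducible module -/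
theorem isV_range {τ : Representation k (SpecialLinearGroup (Fin 2) K) V} {l : List ℕ} (hl : l.Nodup)
    (hb : psm l ≤ Fintype.card K - 1) {θ : FS ι l →ₗ[k] V} (hθ : ∀ g e, θ (fs ι l g e) = τ g (θ e)) (h0 : θ ≠ 0)
    (hs : Stb τ (LinearMap.range θ)) :
    IsV ι 2 (subRep τ (LinearMap.range θ) hs) (psm l) ∧ finrank k (LinearMap.range θ) = 2 ^ l.length := by
  have hV := isV_FS ι hl hb
  have hinj : Function.Injective θ := by
    rcases (IsV.irr ι 2 hV).2 (LinearMap.ker θ) (fun g x hx => by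
      rw [LinearMap.mem_ker] at hx ⊢
      rw [hθ, hx, map_zero]) with h1 | h1
    · exact LinearMap.ker_eq_bot.1 h1
    · exact absurd (LinearMap.ker_eq_top.1 h1) h0
  refine ⟨IsV.iso ι 2 (LinearEquiv.ofInjective θ hinj) (fun g x => Subtype.ext (hθ g x)) hV, ?_⟩
  rw [LinearMap.finrank_range_of_inj hinj, finrank_FS ι hl hb]

variable {a : ℕ} (hK : Fintype.card K = 2 ^ a)

include hK

theorem psm_one_le {n : ℕ} (hn : n < a) : psm [n] ≤ Fintype.card K - 1 := by
  have h1 : psm [n] = 2 ^ n := by rw [psm_cons, psm_nil, add_zero]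
  have h2 : 2 ^ n < 2 ^ a := Nat.pow_lt_pow_right (by norm_num) hn
  rw [h1, hK]
  omega

theorem psm_two_le {n m : ℕ} (hn : n < a) (hm : m < a) (h : n ≠ m) : psm [n, m] ≤ Fintype.card K - 1 := by
  have h1 : psm [n, m] = 2 ^ n + 2 ^ m := by rw [psm_cons, psm_cons, psm_nil, add_zero]
  have key : ∀ i j : ℕ, i < j → j < a → 2 ^ i + 2 ^ j ≤ 2 ^ a - 1 := by
    intro i j hij hj
    have h2 : 2 ^ i < 2 ^ j := Nat.pow_lt_pow_right (by norm_num) hij
    have h3 : 2 ^ (j + 1) ≤ 2 ^ a := Nat.pow_le_pow_right (by norm_num) hj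
    rw [pow_succ] at h3
    omega
  rw [h1, hK]
  rcases lt_or_gt_of_ne h with h2 | h2
  · exact key n m h2 hm
  · rw [add_comm]
    exact key m n h2 hn

/-- **the label of a twisted natural module** -/
theorem Two.isV {τ : Representation k (SpecialLinearGroup (Fin 2) K) V} {n : ℕ} (hn : n < a) {x y : V}
    (h : Two τ (ka ι n) x y) : finrank k (Submodule.span k {x, y}) = 2 ∧
      ∀ hs, IsV ι 2 (subRep τ (Submodule.span k {x, y}) hs) (2 ^ n) := by
  obtain ⟨θ, hθ⟩ := exists_lift ι (n := n) (l := []) (List.nodup_singleton n) (psm_one_le hK hn)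
    ((co1 ι).smulRight x) ((co1 ι).smulRight y)
  have hθe := equiv_of ι (τ := τ) hθ (fun g r => by
    rw [LinearMap.smulRight_apply, LinearMap.smulRight_apply, LinearMap.smulRight_apply, co1_fs, map_smul, h.act₀]
    module) (fun g r => by
    rw [LinearMap.smulRight_apply, LinearMap.smulRight_apply, LinearMap.smulRight_apply, co1_fs, map_smul, h.act₁]
    module)
  have hx : θ (jx ι n [] (on1 ι) + jy ι n [] 0) = x := by
    rw [hθ, map_zero, add_zero, LinearMap.smulRight_apply, co1_on1, one_smul]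
  have hy : θ (jx ι n [] 0 + jy ι n [] (on1 ι)) = y := by
    rw [hθ, map_zero, zero_add, LinearMap.smulRight_apply, co1_on1, one_smul]
  have h0 : θ ≠ 0 := by
    intro h0
    rw [h0, LinearMap.zero_apply] at hx
    exact h.ne hx.symm
  have hr : LinearMap.range θ = Submodule.span k {x, y} := by
    apply le_antisymm
    · rintro _ ⟨e, rfl⟩
      obtain ⟨r, r', rfl⟩ := (tens_FS ι n []).span e
      rw [hθ, LinearMap.smulRight_apply, LinearMap.smulRight_apply]
      exact Submodule.add_mem _ (Submodule.smul_mem _ _ (Submodule.subset_span (Or.inl rfl)))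
        (Submodule.smul_mem _ _ (Submodule.subset_span (Or.inr rfl)))
    · rw [Submodule.span_le]
      rintro z (rfl | hz)
      · exact ⟨_, hx⟩
      · rw [Set.mem_singleton_iff.1 hz]
        exact ⟨_, hy⟩
  have hpsm : psm [n] = 2 ^ n := by rw [psm_cons, psm_nil, add_zero]
  have key : ∀ W : Submodule k V, W = LinearMap.range θ → finrank k W = 2 ∧
      ∀ hs, IsV ι 2 (subRep τ W hs) (2 ^ n) := by
    rintro _ rfl
    have hs : Stb τ (LinearMap.range θ) := by
      rintro g _ ⟨e, rfl⟩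
      exact ⟨_, hθe g e⟩
    obtain ⟨h1, h2⟩ := isV_range ι (τ := τ) (List.nodup_singleton n) (psm_one_le hK hn) hθe h0 hs
    rw [hpsm] at h1
    exact ⟨h2, fun _ => h1⟩
  exact key _ hr.symm

/-- **the label of a tensor product of two twisted natural modules** -/
theorem Four.isV {τ : Representation k (SpecialLinearGroup (Fin 2) K) V} {n m : ℕ} (hn : n < a) (hm : m < a)
    (hnm : n ≠ m) {x y z t : V} (h : Four τ (ka ι n) (ka ι m) x y z t) (hne : ¬ (x = 0 ∧ y = 0 ∧ z = 0 ∧ t = 0)) :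
    finrank k (Submodule.span k {x, y, z, t}) = 4 ∧
      ∀ hs, IsV ι 2 (subRep τ (Submodule.span k {x, y, z, t}) hs) (2 ^ n + 2 ^ m) := by
  have hnd : [n, m].Nodup := by simp [hnm]
  obtain ⟨θ₀, hθ₀⟩ := exists_lift ι (n := m) (l := []) (List.nodup_singleton m) (psm_one_le hK hm)
    ((co1 ι).smulRight x) ((co1 ι).smulRight y)
  obtain ⟨θ₁, hθ₁⟩ := exists_lift ι (n := m) (l := []) (List.nodup_singleton m) (psm_one_le hK hm)
    ((co1 ι).smulRight z) ((co1 ι).smulRight t)
  obtain ⟨θ, hθ⟩ := exists_lift ι (n := n) (l := [m]) hnd (psm_two_le hK hn hm hnm) θ₀ θ₁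
  have hT := tens_FS ι m []
  have hact : ∀ (g : SpecialLinearGroup (Fin 2) K) (r r' : FS ι []), fs ι [m] g (jx ι m [] r + jy ι m [] r') =
      jx ι m [] (ka ι m (g.1 0 0) • fs ι [] g r + ka ι m (g.1 0 1) • fs ι [] g r') +
      jy ι m [] (ka ι m (g.1 1 0) • fs ι [] g r + ka ι m (g.1 1 1) • fs ι [] g r') := by
    intro g r r'
    rw [map_add, hT.act₀, hT.act₁]
    simp only [Matrix.map_apply, map_add, map_smul]
    abel
  have hθe := equiv_of ι (τ := τ) hθ (fun g e => by
    obtain ⟨r, r', rfl⟩ := hT.span e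
    rw [hact, hθ₀, hθ₀, hθ₁]
    simp only [LinearMap.smulRight_apply, map_add, map_smul, co1_fs]
    rw [h.act₀, h.act₁]
    module) (fun g e => by
    obtain ⟨r, r', rfl⟩ := hT.span e
    rw [hact, hθ₁, hθ₀, hθ₁]
    simp only [LinearMap.smulRight_apply, map_add, map_smul, co1_fs]
    rw [h.act₂, h.act₃]
    module)
  have hval : ∀ r₀ r₁ s₀ s₁ : FS ι [], θ (jx ι n [m] (jx ι m [] r₀ + jy ι m [] r₁) +
      jy ι n [m] (jx ι m [] s₀ + jy ι m [] s₁)) =
      (co1 ι r₀ • x + co1 ι r₁ • y) + (co1 ι s₀ • z + co1 ι s₁ • t) := by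
    intro r₀ r₁ s₀ s₁
    rw [hθ, hθ₀, hθ₁]
    rfl
  have hx := hval (on1 ι) 0 0 0
  have hy := hval 0 (on1 ι) 0 0
  have hz := hval 0 0 (on1 ι) 0
  have ht := hval 0 0 0 (on1 ι)
  rw [co1_on1, map_zero (co1 ι), one_smul, zero_smul, zero_smul, zero_smul, add_zero, add_zero, add_zero] at hx
  rw [co1_on1, map_zero (co1 ι), one_smul, zero_smul, zero_smul, zero_smul, zero_add, add_zero, add_zero] at hy
  rw [co1_on1, map_zero (co1 ι), one_smul, zero_smul, zero_smul, zero_smul, zero_add, zero_add, add_zero] at hz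
  rw [co1_on1, map_zero (co1 ι), one_smul, zero_smul, zero_smul, zero_smul, zero_add, zero_add, zero_add] at ht
  have h0 : θ ≠ 0 := by
    intro h0
    rw [h0, LinearMap.zero_apply] at hx hy hz ht
    exact hne ⟨hx.symm, hy.symm, hz.symm, ht.symm⟩
  have hr : LinearMap.range θ = Submodule.span k {x, y, z, t} := by
    apply le_antisymm
    · rintro _ ⟨e, rfl⟩
      obtain ⟨r, s, rfl⟩ := (tens_FS ι n [m]).span e
      obtain ⟨r₀, r₁, rfl⟩ := hT.span r
      obtain ⟨s₀, s₁, rfl⟩ := hT.span s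
      rw [hval]
      exact Submodule.add_mem _
        (Submodule.add_mem _ (Submodule.smul_mem _ _ (Submodule.subset_span (by simp)))
          (Submodule.smul_mem _ _ (Submodule.subset_span (by simp))))
        (Submodule.add_mem _ (Submodule.smul_mem _ _ (Submodule.subset_span (by simp)))
          (Submodule.smul_mem _ _ (Submodule.subset_span (by simp))))
    · rw [Submodule.span_le]
      rintro v (rfl | rfl | rfl | hv)
      · exact ⟨_, hx⟩
      · exact ⟨_, hy⟩
      · exact ⟨_, hz⟩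
      · rw [Set.mem_singleton_iff.1 hv]
        exact ⟨_, ht⟩
  have hpsm : psm [n, m] = 2 ^ n + 2 ^ m := by rw [psm_cons, psm_cons, psm_nil, add_zero]
  have key : ∀ W : Submodule k V, W = LinearMap.range θ → finrank k W = 4 ∧
      ∀ hs, IsV ι 2 (subRep τ W hs) (2 ^ n + 2 ^ m) := by
    rintro _ rfl
    have hs : Stb τ (LinearMap.range θ) := by
      rintro g _ ⟨e, rfl⟩
      exact ⟨_, hθe g e⟩
    obtain ⟨h1, h2⟩ := isV_range ι (τ := τ) hnd (psm_two_le hK hn hm hnm) hθe h0 hs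
    rw [hpsm] at h1
    exact ⟨h2, fun _ => h1⟩
  exact key _ hr.symm

/-- **modules of dimension 2** -/
theorem two_of_isV {τ : Representation k (SpecialLinearGroup (Fin 2) K) V} {b : ℕ} (h : IsV ι 2 τ b)
    (h2 : finrank k V = 2) : ∃ n < a, b = 2 ^ n ∧ ∃ x y, Two τ (ka ι n) x y ∧ Submodule.span k {x, y} = ⊤ := by
  obtain ⟨l, hl, rfl, hb, hd, φ, hφ⟩ := exists_iso_FS ι h
  rw [h2] at hd
  have hlen : l.length = 1 := by
    have e1 : l.length ≠ 0 := by
      intro h0
      rw [h0] at hd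
      norm_num at hd
    by_contra hne
    have e2 : 2 ^ 2 ≤ 2 ^ l.length := Nat.pow_le_pow_right (by norm_num) (by omega)
    omega
  obtain ⟨n, rfl⟩ := List.length_eq_one_iff.1 hlen
  have hpsm : psm [n] = 2 ^ n := by rw [psm_cons, psm_nil, add_zero]
  have hn : n < a := by
    rw [hpsm, hK] at hb
    by_contra hcon
    have e1 : 2 ^ a ≤ 2 ^ n := Nat.pow_le_pow_right (by norm_num) (by omega)
    have e2 : 0 < 2 ^ a := by positivity
    omega
  have hT := tens_FS ι n []
  refine ⟨n, hn, hpsm, φ (jx ι n [] (on1 ι)), φ (jy ι n [] (on1 ι)), ⟨fun g => ?_, fun g => ?_, fun h0 => ?_⟩, ?_⟩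
  · have e1 : fs ι [] g (on1 ι) = on1 ι := Subtype.ext rfl
    rw [← hφ, hT.act₀, e1, map_add, map_smul, map_smul]
    rfl
  · have e1 : fs ι [] g (on1 ι) = on1 ι := Subtype.ext rfl
    rw [← hφ, hT.act₁, e1, map_add, map_smul, map_smul]
    rfl
  · have e1 : jx ι n [] (on1 ι) = 0 := φ.map_eq_zero_iff.1 h0
    have e2 : (jx ι n [] (on1 ι) : K × K → k) (1, 0) = 0 := by rw [e1]; rfl
    have e3 : ka ι n (1 : K) * 1 = 0 := e2
    rw [map_one, mul_one] at e3
    exact one_ne_zero e3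
  · rw [eq_top_iff]
    intro v _
    obtain ⟨r, r', h3⟩ := hT.span (φ.symm v)
    have h4 : v = co1 ι r • φ (jx ι n [] (on1 ι)) + co1 ι r' • φ (jy ι n [] (on1 ι)) := by
      rw [← φ.apply_symm_apply v, h3, map_add]
      congr 1
      · conv_lhs => rw [eq_co1 ι r]
        rw [map_smul, map_smul]
      · conv_lhs => rw [eq_co1 ι r']
        rw [map_smul, map_smul]
    rw [h4]
    exact Submodule.add_mem _ (Submodule.smul_mem _ _ (Submodule.subset_span (Or.inl rfl)))
      (Submodule.smul_mem _ _ (Submodule.subset_span (Or.inr rfl)))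

omit hK in
theorem ka_add_card {a : ℕ} (hK : Fintype.card K = 2 ^ a) (n : ℕ) : ka ι (n + a) = ka ι n := by
  ext t
  rw [ka_apply, ka_apply, pow_add, mul_comm, pow_mul, ← hK, ← map_pow, FiniteField.pow_card]

omit hK in
theorem ka_mod {a : ℕ} (hK : Fintype.card K = 2 ^ a) (n : ℕ) : ka ι (n % a) = ka ι n := by
  conv_rhs => rw [← Nat.mod_add_div n a]
  generalize n / a = m
  generalize n % a = r
  induction m with
  | zero => rw [Nat.mul_zero, Nat.add_zero]
  | succ m ih => rw [Nat.mul_succ, ← Nat.add_assoc, ka_add_card ι hK, ← ih]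

end lift

end Cfsg.Agent.R2.H6P2
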